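import Groth.Agent.W4c1frobunstiva.K811.SingGood
import Groth.Agent.SDiv.K474.FittBlow
import Groth.Agent.Ega2.SmoothBdry
import Groth.Agent.Models.SmoothCase
import Groth.Agent.Fitt.K360.Fiber
import Groth.Agent.Desc.LQF
import Mathlib.RingTheory.Smooth.StandardSmoothCotangent

/-!
# Smooth points are not in the singular subscheme
-/

set_option autoImplicit false
universe u

open CategoryTheory CategoryTheory.Limits AlgebraicGeometry OmegaSh Groth.Agent

namespace K811.SingSmooth

theorem fitt_eq_top {R A : Type u} [CommRing R] [CommRing A] [Algebra R A]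
    [Algebra.IsStandardSmoothOfRelativeDimension 1 R A] :
    Fitt.ideal A Ω[A⁄R] 1 = ⊤ := by
  cases subsingleton_or_nontrivial A with
  | inl h => exact Subsingleton.elim _ _
  | inr h =>
    have h0 : Algebra.IsStandardSmooth R A :=
      Algebra.IsStandardSmoothOfRelativeDimension.isStandardSmooth 1
    have h1 := Algebra.IsStandardSmoothOfRelativeDimension.rank_kaehlerDifferential (R := R) (S := A) 1
    have h2 : Module.finrank A Ω[A⁄R] = 1 := by
      rw [Module.finrank, h1]; simp
    let b := Module.finBasisOfFinrankEq A Ω[A⁄R] h2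
    exact K360.FittFiber.ideal_eq_top_of_basis b (by simp)

/-- At a point where a curve is smooth, the first Fitting ideal of the differentials is trivial. -/
theorem notMem_support_field {k : Type u} [Field k] {F : Scheme.{u}}
    (p : F ⟶ Spec (CommRingCat.of k)) [LocallyOfFiniteType p]
    (hF : ∀ Z ∈ irreducibleComponents (F : Type u), topologicalKrullDim Z = 1)
    (y : F) (W : F.Opens) (hy : y ∈ W) (hW : Smooth (W.ι ≫ p)) {Ω : F.Modules} {d : Der p Ω}
    (hd : IsUniversal d) : y ∉ (Fitt.sheafIdeal Ω 1).support := by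
  have hJ := LocallyOfFiniteType.jacobsonSpace p
  obtain ⟨m, U, hU, V, hV, hyV, e, hm, hdim⟩ := Ega2.SmoothBdry.exists_relDim (W.ι ≫ p) ⟨y, hy⟩
  have h1 := hdim _ hyV
  have h2 : FlatMor.localDim W.toScheme ⟨y, hy⟩ = FlatMor.localDim F y :=
    VarietyB.DimTop.localDim_opens W ⟨y, hy⟩
  rw [h2, Models.SmoothCase.localDim_eq_one hF y] at h1
  have hm1 : m = 1 := by exact_mod_cast h1.symm
  subst hm1
  have hV' : IsAffineOpen (W.ι ''ᵁ V) := hV.image_of_isOpenImmersion W.ι
  have hyV' : y ∈ W.ι ''ᵁ V := ⟨⟨y, hy⟩, hyV, rfl⟩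
  have e' : W.ι ''ᵁ V ≤ p ⁻¹ᵁ U := by
    rintro _ ⟨z, hz, rfl⟩
    exact e hz
  have happ : p.appLE U (W.ι ''ᵁ V) e' = (W.ι ≫ p).appLE U V e ≫ (W.ι.appIso V).inv := by
    rw [Iso.eq_comp_inv, Scheme.Hom.appIso_hom', Scheme.Hom.appLE_comp_appLE]
  have hst : RingHom.IsStandardSmoothOfRelativeDimension 1 (p.appLE U (W.ι ''ᵁ V) e').hom := by
    rw [happ, CommRingCat.hom_comp]
    have h3 : RingHom.IsStandardSmoothOfRelativeDimension 0 (W.ι.appIso V).inv.hom :=
      RingHom.IsStandardSmoothOfRelativeDimension.equiv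
        (W.ι.appIso V).symm.commRingCatIsoToRingEquiv
    have h4 := h3.comp hm
    exact h4
  let _ := (p.appLE U (W.ι ''ᵁ V) e').hom.toAlgebra
  have : Algebra.IsStandardSmoothOfRelativeDimension 1 Γ(Spec (CommRingCat.of k), U)
    Γ(F, W.ι ''ᵁ V) := hst
  obtain ⟨ε, -⟩ := K583.UnivAffine.exists_kaehler_equiv hd hV' hU e' rfl
  have hfin : Module.Finite Γ(F, W.ι ''ᵁ V) Γ(Ω, W.ι ''ᵁ V) := K583.Finite.finite_app hd hV' hU e'
  have hft : Algebra.FiniteType Γ(Spec (CommRingCat.of k), U) Γ(F, W.ι ''ᵁ V) :=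
    LocallyOfFiniteType.finiteType_appLE p hU hV' e'
  have hid : (Fitt.sheafIdeal Ω 1).ideal ⟨_, hV'⟩ = ⊤ := by
    rw [SDiv.K474.FittSheaf.sheafIdeal_ideal Ω
      (K583.UnivAffine.isQuasicoherent_of_isUniversal hd) (K583.Finite.isFT hd),
      ← K360.FittBasic.ideal_congr ε 1]
    exact fitt_eq_top
  intro hsupp
  rw [Scheme.IdealSheafData.mem_support_iff_of_mem (U := ⟨_, hV'⟩) hyV', Scheme.mem_zeroLocus_iff] at hsupp
  have h5 := hsupp 1 (by rw [hid]; trivial)
  rw [Scheme.basicOpen_one] at h5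
  exact h5 hyV'

/-- Smooth points of the fibre are not in the singular subscheme. -/
theorem notMem_support {X S : Scheme.{u}} (f : X ⟶ S) [LocallyOfFiniteType f] {Ω : X.Modules}
    {d : Der f Ω} (hd : IsUniversal d) (s : S) (y : f.fiber s)
    (hF : ∀ Z ∈ irreducibleComponents (f.fiber s : Type u), topologicalKrullDim Z = 1)
    (W : (f.fiber s).Opens) (hy : y ∈ W) (hW : Smooth (W.ι ≫ f.fiberToSpecResidueField s)) :
    f.fiberι s y ∉ (Fitt.sheafIdeal Ω 1).support := by
  obtain ⟨Ω', d', hd'⟩ := K583.ExistsUniv.exists_isUniversal (f.fiberToSpecResidueField s)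
  have hsq : IsPullback (f.fiberι s) (f.fiberToSpecResidueField s) f (S.fromSpecResidueField s) :=
    IsPullback.of_hasPullback _ _
  have hft : LocallyOfFiniteType (f.fiberToSpecResidueField s) :=
    MorphismProperty.pullback_snd _ _ inferInstance
  let c := K583.DerFunct.diffMap (b := S.fromSpecResidueField s) hsq.w.symm hd d'
  have hc := K583.DerFunct.isDiffCompat_diffMap (b := S.fromSpecResidueField s) hsq.w.symm hd d'
  have hciso : IsIso c := K583.BaseChange.isIso_of_isPullback hsq hd hd' hc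
  have hq := K583.UnivAffine.isQuasicoherent_of_isUniversal hd
  have hq' := K583.UnivAffine.isQuasicoherent_of_isUniversal hd'
  have h1 := SDiv.K474.FittSheaf.sheafIdeal_comap (f.fiberι s) Ω hq (K583.Finite.isFT hd) 1
  have h2 := SDiv.K474.FittBlow.sheafIdeal_iso (asIso c).symm hq'
    (CohqA.PullbackQCoh.isQuasicoherent_pullback (f.fiberι s) Ω) (K583.Finite.isFT hd')
    (SDiv.K474.FittSheaf.isFT_pullback (f.fiberι s) Ω hq (K583.Finite.isFT hd)) 1
  intro hsupp
  have h3 : y ∈ ((Fitt.sheafIdeal Ω 1).comap (f.fiberι s)).support := by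
    rw [Scheme.IdealSheafData.support_comap]
    exact hsupp
  rw [h1, ← h2] at h3
  exact @notMem_support_field (IsLocalRing.ResidueField (S.presheaf.stalk s)) _ _
    (f.fiberToSpecResidueField s) hft hF y W hy hW Ω' d' hd' h3

theorem good_of_node' {X S : Scheme.{u}} (f : X ⟶ S) [Flat f] [LocallyOfFinitePresentation f]
    {Ω : X.Modules} {d : Der f Ω} (hd : IsUniversal d) (x : X) (s : S) (hs : f x = s)
    (y : f.fiber s) (hy : f.fiberι s y = x)
    (hn : @Curv2.IsNode (S.residueField s) _ (f.fiber s) ⟨f.fiberToSpecResidueField s⟩ y) :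
    SingGood.Good f (Fitt.sheafIdeal Ω 1) x := by
  subst hs
  have h1 : y = f.asFiber x := by
    apply (f.fiberι (f x)).isEmbedding.injective
    rw [hy]
    exact (f.fiberι_asFiber x).symm
  subst h1
  exact SingGood.good_of_node f hd x hn

theorem good {X S : Scheme.{u}} (f : X ⟶ S) (hf : Curv2.IsNodalFamily f)
    {Ω : X.Modules} {d : Der f Ω} (hd : IsUniversal d) (x : X) :
    SingGood.Good f (Fitt.sheafIdeal Ω 1) x := by
  obtain ⟨h1, h2, h3⟩ := hf
  obtain ⟨hF, hnod⟩ := h3 (f x)
  have hft : LocallyOfFiniteType (f.fiberToSpecResidueField (f x)) :=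
    MorphismProperty.pullback_snd _ _ inferInstance
  have hJ := LocallyOfFiniteType.jacobsonSpace (f.fiberToSpecResidueField (f x))
  obtain ⟨y', hy', hcl⟩ := nonempty_inter_closedPoints (X := f.fiber (f x))
    (Z := closure {f.asFiber x}) ⟨_, subset_closure rfl⟩ isClosed_closure.isLocallyClosed
  have hsp : f.asFiber x ⤳ y' := specializes_iff_mem_closure.2 hy'
  have hsp' : x ⤳ f.fiberι (f x) y' := by
    have := hsp.map (f.fiberι (f x)).continuous
    rwa [f.fiberι_asFiber x] at this
  have hgood : SingGood.Good f (Fitt.sheafIdeal Ω 1) (f.fiberι (f x) y') := by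
    have hfy : f (f.fiberι (f x) y') = f x := by
      have h4 : f.fiberι (f x) y' ∈ Set.range (f.fiberι (f x)) := ⟨y', rfl⟩
      rw [Scheme.Hom.range_fiberι] at h4
      exact h4
    rcases hnod y' hcl with ⟨W, hyW, hW⟩ | hn
    · exact SingGood.good_of_not_mem_support f _ _ (notMem_support f hd (f x) y' hF W hyW hW)
    · exact good_of_node' f hd _ (f x) hfy y' rfl hn
  exact hsp'.mem_open (SingGood.good_isOpen f _) hgood

theorem main {X S : Scheme.{u}} (f : X ⟶ S) (hf : Curv2.IsNodalFamily f) [IsProper f]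
    {Ω : X.Modules} {d : Der f Ω} (hd : IsUniversal d) :
    IsFinite ((Fitt.sheafIdeal Ω 1).subschemeι ≫ f) ∧
      FormallyUnramified ((Fitt.sheafIdeal Ω 1).subschemeι ≫ f) := by
  have h1 := SingGood.formallyUnramified_of_good f _ (good f hf hd)
  refine ⟨?_, h1⟩
  have h3 : LocallyOfFiniteType ((Fitt.sheafIdeal Ω 1).subschemeι ≫ f) := inferInstance
  have h2 := Desc.LQF.of_unramified ((Fitt.sheafIdeal Ω 1).subschemeι ≫ f)
  exact IsFinite.of_isProper_of_locallyQuasiFinite _

end K811.SingSmooth
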