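import Groth.Agent.CohqA.ClosedPush
import Mathlib.AlgebraicGeometry.Modules.Sheaf
import Mathlib.AlgebraicGeometry.Morphisms.ClosedImmersion
import Mathlib.CategoryTheory.Limits.Preserves.Shapes.Kernels
import Mathlib.Algebra.Category.ModuleCat.Sheaf.Abelian
import Mathlib.Algebra.Homology.ShortComplex.Exact
import Mathlib.Algebra.Homology.ShortComplex.Abelian

/-!
# Kernel comparison for right exact functors
-/

set_option autoImplicit false
universe u v u' v'
open CategoryTheory CategoryTheory.Limits AlgebraicGeometry

namespace K811.KerComp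

theorem epi_kernelComparison {C : Type u} [Category.{v} C] [Abelian C] {D : Type u'}
    [Category.{v'} D] [Abelian D] (F : C ⥤ D) [F.PreservesZeroMorphisms] [PreservesFiniteColimits F]
    {X Y : C} (ψ : X ⟶ Y) [Epi ψ] : Epi (kernelComparison ψ F) := by
  let S : ShortComplex C := ShortComplex.mk (kernel.ι ψ) ψ (kernel.condition ψ)
  have hS : S.Exact := ShortComplex.exact_of_f_is_kernel _ (kernelIsKernel ψ)
  have hS' : (S.map F).Exact := hS.map_of_epi_of_preservesCokernel F (by assumption) inferInstance
  exact hS'.epi_kernelLift

theorem main {S T : Scheme.{u}} (f : S ⟶ T) [IsClosedImmersion f] (G : T.Modules) (E : S.Modules)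
    (ψ : G ⟶ (Scheme.Modules.pushforward f).obj E) [Epi ψ] :
    Epi (((Scheme.Modules.pullbackPushforwardAdjunction f).homEquiv G E).symm ψ) ∧
      Epi (kernelComparison ψ (Scheme.Modules.pullback f)) := by
  have := (Scheme.Modules.pullbackPushforwardAdjunction f).leftAdjoint_preservesColimits
  constructor
  · have := Groth.Agent.CohqA.ClosedPush.full (i := f)
    have := Groth.Agent.CohqA.ClosedPush.faithful (i := f)
    rw [Adjunction.homEquiv_counit]
    have h1 : IsIso ((Scheme.Modules.pullbackPushforwardAdjunction f).counit.app E) :=
      inferInstance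
    have h2 : Epi ((Scheme.Modules.pullback f).map ψ) := inferInstance
    exact epi_comp _ _
  · exact epi_kernelComparison (Scheme.Modules.pullback f) ψ

end K811.KerComp
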