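import Mathlib.RingTheory.Nilpotent.Lemmas
import Mathlib.RingTheory.Noetherian.Nilpotent
import Mathlib.RingTheory.Nakayama
import Mathlib.LinearAlgebra.Basis.Basic
import Mathlib.LinearAlgebra.TensorProduct.Quotient
import Mathlib.RingTheory.TensorProduct.Basic
import Mathlib.RingTheory.Ideal.Quotient.Basic
import Mathlib.RingTheory.Ideal.Quotient.Nilpotent
import Mathlib.LinearAlgebra.Matrix.NonsingularInverse
import Groth.Prelude.Def_W4c1frobunstivaNR

/-!
# NR-free modules: comparison with freeness modulo the nilradical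
-/

set_option autoImplicit false
universe u v

open TensorProduct

namespace K811.NR

variable {R : Type u} [CommRing R] {M : Type v} [AddCommGroup M] [Module R M]

/-- The canonical map `M → (R/I) ⊗ M`. -/
theorem mk_one_surjective (I : Ideal R) :
    Function.Surjective (TensorProduct.mk R (R ⧸ I) M 1) := by
  intro x
  induction x using TensorProduct.induction_on with
  | zero => exact ⟨0, by simp⟩
  | tmul a m =>
    obtain ⟨a, rfl⟩ := Ideal.Quotient.mk_surjective a
    refine ⟨a • m, ?_⟩
    have : (Ideal.Quotient.mk I a : R ⧸ I) = a • (1 : R ⧸ I) := by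
      rw [Algebra.smul_def, mul_one]; rfl
    rw [this, TensorProduct.smul_tmul]
    rfl
  | add x y hx hy =>
    obtain ⟨a, rfl⟩ := hx
    obtain ⟨b, rfl⟩ := hy
    exact ⟨a + b, by rw [map_add]⟩

theorem mk_one_eq_zero_iff (I : Ideal R) (m : M) :
    TensorProduct.mk R (R ⧸ I) M 1 m = 0 ↔ m ∈ I • (⊤ : Submodule R M) := by
  have h := TensorProduct.quotTensorEquivQuotSMul M I
  have h2 := TensorProduct.quotTensorEquivQuotSMul_mk_tmul (M := M) I 1 m
  rw [TensorProduct.mk_apply, ← (TensorProduct.quotTensorEquivQuotSMul M I).map_eq_zero_iff]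
  rw [← map_one (Ideal.Quotient.mk I), TensorProduct.quotTensorEquivQuotSMul_mk_tmul, one_smul,
    Submodule.Quotient.mk_eq_zero]

theorem mem_smul_top_of_span {r : ℕ} (I : Ideal R) (m : Fin r → M)
    (hm : Submodule.span R (Set.range m) = ⊤) {x : M} (hx : x ∈ I • (⊤ : Submodule R M)) :
    ∃ c : Fin r → R, (∀ i, c i ∈ I) ∧ x = ∑ i, c i • m i := by
  rw [← hm] at hx
  rw [Submodule.mem_ideal_smul_span_iff_exists_sum] at hx
  obtain ⟨c, hc, h⟩ := hx
  refine ⟨c, hc, ?_⟩
  rw [← h, Finsupp.sum_fintype _ _ (by simp)]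

/-- An NR-basis gives a basis of the reduction. -/
theorem basis_reduction {r : ℕ} {m : Fin r → M} (h : W4c1frobunstiva.IsNRBasis R M m) :
    LinearIndependent (R ⧸ nilradical R)
      (fun i => (1 : R ⧸ nilradical R) ⊗ₜ[R] m i) ∧
    (⊤ : Submodule (R ⧸ nilradical R) ((R ⧸ nilradical R) ⊗[R] M)) ≤
      Submodule.span (R ⧸ nilradical R) (Set.range
        (fun i => (1 : R ⧸ nilradical R) ⊗ₜ[R] m i)) := by
  obtain ⟨h1, h2⟩ := h
  constructor
  · rw [Fintype.linearIndependent_iff]
    intro g hg i
    choose a ha using fun i => Ideal.Quotient.mk_surjective (g i)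
    have e : TensorProduct.mk R (R ⧸ nilradical R) M 1 (∑ i, a i • m i) = 0 := by
      rw [map_sum, ← hg]
      refine Finset.sum_congr rfl fun j _ => ?_
      rw [← ha j, map_smul]
      rfl
    rw [mk_one_eq_zero_iff] at e
    obtain ⟨c, hc, e2⟩ := mem_smul_top_of_span _ m h1 e
    have e3 : ∑ i, (a i - c i) • m i = 0 := by
      simp only [sub_smul, Finset.sum_sub_distrib]
      rw [e2, sub_self]
    have e4 := h2 _ e3 i
    have e5 : a i - c i ∈ nilradical R := mem_nilradical.2 e4
    have e6 : a i ∈ nilradical R := by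
      have := (nilradical R).add_mem e5 (hc i)
      simpa using this
    rw [← ha i, Ideal.Quotient.eq_zero_iff_mem]
    exact e6
  · rintro x -
    obtain ⟨x, rfl⟩ := mk_one_surjective (nilradical R) x
    have hx : x ∈ Submodule.span R (Set.range m) := by rw [h1]; trivial
    induction hx using Submodule.span_induction with
    | mem x hx =>
      obtain ⟨i, rfl⟩ := hx
      exact Submodule.subset_span ⟨i, rfl⟩
    | zero => simp
    | add x y _ _ hx hy => rw [map_add]; exact Submodule.add_mem _ hx hy
    | smul a x _ hx =>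
      rw [map_smul]
      exact Submodule.smul_of_tower_mem _ a hx

theorem top_of_sup_nilradical_smul [IsNoetherianRing R] (N : Submodule R M)
    (h : N ⊔ nilradical R • (⊤ : Submodule R M) = ⊤) : N = ⊤ := by
  obtain ⟨k, hk⟩ := IsNoetherianRing.isNilpotent_nilradical R
  have key : ∀ n : ℕ, N ⊔ (nilradical R ^ n) • (⊤ : Submodule R M) = ⊤ := by
    intro n
    induction n with
    | zero => simp
    | succ n ih =>
      rw [eq_top_iff]
      calc (⊤ : Submodule R M) = N ⊔ nilradical R ^ n • (⊤ : Submodule R M) := ih.symm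
        _ = N ⊔ nilradical R ^ n • (N ⊔ nilradical R • (⊤ : Submodule R M)) := by rw [h]
        _ ≤ N ⊔ nilradical R ^ (n + 1) • (⊤ : Submodule R M) := by
          rw [Submodule.smul_sup, pow_succ, Submodule.mul_smul]
          refine sup_le le_sup_left (sup_le ?_ le_sup_right)
          exact Submodule.smul_le_right.trans le_sup_left
  have := key k
  rw [hk, Submodule.zero_eq_bot, Submodule.bot_smul, sup_bot_eq] at this
  exact this

theorem isNRFree_iff [IsNoetherianRing R] (r : ℕ) :
    W4c1frobunstiva.IsNRFree R M r ↔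
      Nonempty (Module.Basis (Fin r) (R ⧸ nilradical R) ((R ⧸ nilradical R) ⊗[R] M)) := by
  constructor
  · rintro ⟨m, hm⟩
    obtain ⟨h1, h2⟩ := basis_reduction hm
    exact ⟨Module.Basis.mk h1 h2⟩
  · rintro ⟨b⟩
    choose m hm using fun i => mk_one_surjective (M := M) (nilradical R) (b i)
    refine ⟨m, ?_, ?_⟩
    · apply top_of_sup_nilradical_smul
      rw [eq_top_iff]
      rintro x -
      have hx := b.sum_repr (TensorProduct.mk R (R ⧸ nilradical R) M 1 x)
      choose a ha using fun i => Ideal.Quotient.mk_surjective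
        (b.repr (TensorProduct.mk R (R ⧸ nilradical R) M 1 x) i)
      have e : TensorProduct.mk R (R ⧸ nilradical R) M 1 (x - ∑ i, a i • m i) = 0 := by
        rw [map_sub, sub_eq_zero, map_sum, ← hx]
        refine Finset.sum_congr rfl fun j _ => ?_
        rw [← ha j, map_smul, hm j]
        rfl
      rw [mk_one_eq_zero_iff] at e
      have : x = (∑ i, a i • m i) + (x - ∑ i, a i • m i) := by abel
      rw [this]
      refine Submodule.add_mem_sup ?_ e
      exact Submodule.sum_mem _ fun i _ => Submodule.smul_mem _ _ (Submodule.subset_span ⟨i, rfl⟩)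
    · intro a ha i
      have e : ∑ i, (Ideal.Quotient.mk (nilradical R) (a i)) • b i = 0 := by
        have : TensorProduct.mk R (R ⧸ nilradical R) M 1 (∑ i, a i • m i) = 0 := by
          rw [ha, map_zero]
        rw [← this, map_sum]
        refine Finset.sum_congr rfl fun j _ => ?_
        rw [map_smul, hm j]
        rfl
      have := Fintype.linearIndependent_iff.1 b.linearIndependent _ e i
      rw [Ideal.Quotient.eq_zero_iff_mem] at this
      exact mem_nilradical.1 this

theorem isUnit_of_NRBasis [IsNoetherianRing R] {r : ℕ} {b : Fin r → M}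
    (hb : W4c1frobunstiva.IsNRBasis R M b) (m : Fin r → M)
    (hm : Submodule.span R (Set.range m) = ⊤) (A : Matrix (Fin r) (Fin r) R)
    (hA : ∀ j, m j = ∑ i, A j i • b i) : IsUnit A := by
  have : ∀ j, ∃ c : Fin r → R, b j = ∑ i, c i • m i := by
    intro j
    have : b j ∈ Submodule.span R (Set.range m) := by rw [hm]; trivial
    rw [Submodule.mem_span_range_iff_exists_fun] at this
    obtain ⟨c, hc⟩ := this
    exact ⟨c, hc.symm⟩
  choose B hB using this
  have key : ∀ j, ∑ i, ((1 : Matrix (Fin r) (Fin r) R) - Matrix.of B * A) j i • b i = 0 := by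
    intro j
    simp only [Matrix.sub_apply, sub_smul, Finset.sum_sub_distrib]
    have e1 : ∑ i, (1 : Matrix (Fin r) (Fin r) R) j i • b i = b j := by
      simp [Matrix.one_apply]
    have e2 : ∑ i, (Matrix.of B * A) j i • b i = b j := by
      conv_rhs => rw [hB j]
      simp only [hA, Matrix.mul_apply, Finset.sum_smul, Finset.smul_sum, smul_smul, Matrix.of_apply]
      rw [Finset.sum_comm]
    rw [e1, e2, sub_self]
  have h2 : ∀ j i, IsNilpotent (((1 : Matrix (Fin r) (Fin r) R) - Matrix.of B * A) j i) :=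
    fun j i => hb.2 _ (key j) i
  have h3 : (Matrix.of B * A).map (Ideal.Quotient.mk (nilradical R)) = 1 := by
    ext j i
    have := h2 j i
    rw [← mem_nilradical, ← Ideal.Quotient.eq_zero_iff_mem, Matrix.sub_apply, map_sub,
      sub_eq_zero] at this
    rw [Matrix.map_apply, ← this]
    by_cases hij : j = i
    · subst hij; simp
    · simp [hij]
  have h4 : IsUnit (Matrix.of B * A).det := by
    rw [← IsNilpotent.isUnit_quotient_mk_iff (IsNoetherianRing.isNilpotent_nilradical R)]
    rw [RingHom.map_det, RingHom.mapMatrix_apply, h3, Matrix.det_one]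
    exact isUnit_one
  rw [Matrix.det_mul] at h4
  rw [Matrix.isUnit_iff_isUnit_det]
  exact isUnit_of_mul_isUnit_right h4

theorem exists_isUnit_matrix [IsNoetherianRing R] (r : ℕ)
    (hM : W4c1frobunstiva.IsNRFree R M r) (m m' : Fin r → M)
    (hm : Submodule.span R (Set.range m) = ⊤) (hm' : Submodule.span R (Set.range m') = ⊤) :
    ∃ T : Matrix (Fin r) (Fin r) R, IsUnit T ∧ ∀ j, m' j = ∑ i, T j i • m i := by
  obtain ⟨b, hb⟩ := hM
  have hex : ∀ (n : Fin r → M) (j : Fin r), ∃ c : Fin r → R, n j = ∑ i, c i • b i := by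
    intro n j
    have : n j ∈ Submodule.span R (Set.range b) := by rw [hb.1]; trivial
    rw [Submodule.mem_span_range_iff_exists_fun] at this
    obtain ⟨c, hc⟩ := this
    exact ⟨c, hc.symm⟩
  choose A hA using hex m
  choose A' hA' using hex m'
  have hAu : IsUnit (Matrix.of A) := isUnit_of_NRBasis hb m hm _ hA
  have hAu' : IsUnit (Matrix.of A') := isUnit_of_NRBasis hb m' hm' _ hA'
  obtain ⟨C, hC1, hC2⟩ : ∃ C : Matrix (Fin r) (Fin r) R, C * Matrix.of A = 1 ∧ Matrix.of A * C = 1 := by
    obtain ⟨u, hu⟩ := hAu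
    exact ⟨↑u⁻¹, by rw [← hu]; simp, by rw [← hu]; simp⟩
  refine ⟨Matrix.of A' * C, hAu'.mul (IsUnit.of_mul_eq_one _ hC1), fun j => ?_⟩
  have hbm : ∀ i, b i = ∑ l, C i l • m l := by
    intro i
    have e1 : b i = ∑ l, (1 : Matrix (Fin r) (Fin r) R) i l • b l := by
      simp [Matrix.one_apply]
    rw [e1, ← hC1]
    simp only [hA, Matrix.mul_apply, Finset.sum_smul, Finset.smul_sum, smul_smul, Matrix.of_apply]
    rw [Finset.sum_comm]
  rw [hA' j]
  simp only [Matrix.mul_apply, Finset.sum_smul, Matrix.of_apply]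
  rw [Finset.sum_comm]
  refine Finset.sum_congr rfl fun i _ => ?_
  rw [hbm i, Finset.smul_sum]
  simp only [smul_smul]

end K811.NR
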