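import Groth.Statements.S14033
import Mathlib.LinearAlgebra.Basis.Basic
import Mathlib.LinearAlgebra.FreeModule.Finite.Basic
import Mathlib.RingTheory.FiniteType
import Mathlib.RingTheory.Noetherian.Orzech

/-!
# Free modules over the dual numbers
-/

set_option autoImplicit false
universe u v

open DualNumber Pointwise

namespace K811.Dual

variable {R : Type u} [CommRing R] {M : Type v} [AddCommGroup M] [Module R[ε] M] [Module R M]
  [IsScalarTower R R[ε] M]

/-- `ε M`. -/
abbrev epsM (R : Type u) [CommRing R] (M : Type v) [AddCommGroup M] [Module R[ε] M] :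
    Submodule R[ε] M := (ε : R[ε]) • (⊤ : Submodule R[ε] M)

omit [Module R M] [IsScalarTower R R[ε] M] in
theorem mem_epsM {x : M} : x ∈ epsM R M ↔ ∃ y : M, (ε : R[ε]) • y = x := by
  constructor
  · intro h
    obtain ⟨y, -, rfl⟩ := (Submodule.mem_smul_pointwise_iff_exists _ _ _).1 h
    exact ⟨y, rfl⟩
  · rintro ⟨y, rfl⟩
    exact Submodule.smul_mem_pointwise_smul _ _ _ trivial

omit [Module R M] [IsScalarTower R R[ε] M] in
theorem eps_smul_eps (x : M) : (ε : R[ε]) • (ε : R[ε]) • x = 0 := by
  rw [smul_smul, DualNumber.eps_mul_eps, zero_smul]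

theorem smul_eq (a : R[ε]) (x : M) : a • x = a.fst • x + a.snd • ((ε : R[ε]) • x) := by
  conv_lhs => rw [← TrivSqZeroExt.inl_fst_add_inr_snd_eq a]
  rw [add_smul]
  congr 1
  · rw [← TrivSqZeroExt.algebraMap_eq_inl, algebraMap_smul]
  · rw [DualNumber.inr_eq_smul_eps, smul_assoc]

theorem basis_quot {r : ℕ} (b : Module.Basis (Fin r) R[ε] M) :
    Nonempty (Module.Basis (Fin r) R (M ⧸ epsM R M)) := by
  refine ⟨Module.Basis.mk (v := fun i => (Submodule.Quotient.mk (b i) : M ⧸ epsM R M)) ?_ ?_⟩
  · rw [Fintype.linearIndependent_iff]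
    intro g hg i
    have e1 : (Submodule.Quotient.mk (∑ i, g i • b i) : M ⧸ epsM R M) = 0 := by
      rw [← hg]
      change Submodule.mkQ _ _ = _
      rw [map_sum]
      rfl
    rw [Submodule.Quotient.mk_eq_zero, mem_epsM] at e1
    obtain ⟨y, hy⟩ := e1
    have e2 := congrArg (fun z => (b.repr z i).fst) hy
    simp only [map_smul, Finsupp.smul_apply, smul_eq_mul, TrivSqZeroExt.fst_mul,
      DualNumber.fst_eps, zero_mul] at e2
    have e3 : b.repr (∑ i, g i • b i) i = algebraMap R R[ε] (g i) := by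
      have : ∑ i, g i • b i = ∑ i, (algebraMap R R[ε] (g i)) • b i := by
        simp only [algebraMap_smul]
      rw [this, b.repr_sum_self]
    rw [e3, TrivSqZeroExt.algebraMap_eq_inl, TrivSqZeroExt.fst_inl] at e2
    exact e2.symm
  · rintro x -
    obtain ⟨x, rfl⟩ := Submodule.Quotient.mk_surjective _ x
    have e : x = ∑ i, (b.repr x i).fst • b i + (ε : R[ε]) • ∑ i, (b.repr x i).snd • b i := by
      conv_lhs => rw [← b.sum_repr x]
      rw [Finset.smul_sum, ← Finset.sum_add_distrib]
      refine Finset.sum_congr rfl fun i _ => ?_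
      rw [smul_eq, smul_comm]
    have e2 : (Submodule.Quotient.mk x : M ⧸ epsM R M) =
        ∑ i, (b.repr x i).fst • (Submodule.Quotient.mk (b i) : M ⧸ epsM R M) := by
      conv_lhs => rw [e]
      rw [Submodule.Quotient.mk_add, (Submodule.Quotient.mk_eq_zero (x := (ε : R[ε]) • _) _).2
        (mem_epsM.2 ⟨_, rfl⟩), add_zero]
      change Submodule.mkQ _ _ = _
      rw [map_sum]
      rfl
    rw [e2]
    exact Submodule.sum_mem _ fun i _ => Submodule.smul_mem _ _ (Submodule.subset_span ⟨i, rfl⟩)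

theorem basis_eps {r : ℕ} (b : Module.Basis (Fin r) R[ε] M) :
    Nonempty (Module.Basis (Fin r) R ((epsM R M).restrictScalars R)) := by
  refine ⟨Module.Basis.mk (v := fun i => (⟨(ε : R[ε]) • b i, mem_epsM.2 ⟨_, rfl⟩⟩ :
    (epsM R M).restrictScalars R)) ?_ ?_⟩
  · rw [Fintype.linearIndependent_iff]
    intro g hg i
    have e1 := congrArg (fun z => ((z : (epsM R M).restrictScalars R) : M)) hg
    simp only [Submodule.coe_sum, Submodule.coe_smul, ZeroMemClass.coe_zero] at e1
    have e2 : ∑ i, g i • (ε : R[ε]) • b i = ∑ i, ((g i) • (ε : R[ε])) • b i := by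
      simp only [smul_assoc]
    rw [e2] at e1
    have e3 := Fintype.linearIndependent_iff.1 b.linearIndependent _ e1 i
    have := congrArg TrivSqZeroExt.snd e3
    simpa using this
  · rintro ⟨x, hx⟩ -
    obtain ⟨y, rfl⟩ := mem_epsM.1 hx
    have e2 : (⟨(ε : R[ε]) • y, hx⟩ : (epsM R M).restrictScalars R) =
        ∑ i, (b.repr y i).fst • (⟨(ε : R[ε]) • b i, mem_epsM.2 ⟨_, rfl⟩⟩ :
    (epsM R M).restrictScalars R) := by
      apply Subtype.ext
      simp only [Submodule.coe_sum, Submodule.coe_smul]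
      conv_lhs => rw [← b.sum_repr y]
      rw [Finset.smul_sum]
      refine Finset.sum_congr rfl fun i _ => ?_
      rw [smul_eq (b.repr y i), smul_add, smul_comm (ε : R[ε]) ((b.repr y i).snd), eps_smul_eps,
        smul_zero, add_zero, smul_comm]
    rw [e2]
    exact Submodule.sum_mem _ fun i _ => Submodule.smul_mem _ _ (Submodule.subset_span ⟨i, rfl⟩)

/-- multiplication by `ε`. -/
noncomputable def mulEps (R : Type u) [CommRing R] (M : Type v) [AddCommGroup M] [Module R[ε] M]
    [Module R M] [IsScalarTower R R[ε] M] : (M ⧸ epsM R M) →ₗ[R] (epsM R M).restrictScalars R :=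
  (Submodule.liftQ (epsM R M)
    ({ toFun := fun x => ⟨(ε : R[ε]) • x, mem_epsM.2 ⟨_, rfl⟩⟩
       map_add' := fun x y => by ext; simp
       map_smul' := fun a x => by
        apply Subtype.ext
        change (ε : R[ε]) • a • x = a • (ε : R[ε]) • x
        rw [smul_comm] } : M →ₗ[R[ε]] epsM R M) (by
      intro x hx
      obtain ⟨y, rfl⟩ := mem_epsM.1 hx
      rw [LinearMap.mem_ker]
      apply Subtype.ext
      exact eps_smul_eps y)).restrictScalars R

theorem mulEps_mk (x : M) :
    ((mulEps R M (Submodule.Quotient.mk x) : (epsM R M).restrictScalars R) : M) =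
      (ε : R[ε]) • x := rfl

theorem mulEps_surjective : Function.Surjective (mulEps R M) := by
  rintro ⟨x, hx⟩
  obtain ⟨y, rfl⟩ := mem_epsM.1 hx
  exact ⟨Submodule.Quotient.mk y, rfl⟩

theorem mulEps_injective {r : ℕ} (b₁ : Module.Basis (Fin r) R (M ⧸ epsM R M))
    (b₂ : Module.Basis (Fin r) R ((epsM R M).restrictScalars R)) :
    Function.Injective (mulEps R M) := by
  have e := b₁.equiv b₂ (Equiv.refl _)
  have := Module.Finite.of_basis b₁
  have h : Function.Surjective (e.symm.toLinearMap ∘ₗ mulEps R M) :=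
    e.symm.surjective.comp mulEps_surjective
  have h2 := OrzechProperty.injective_of_surjective_endomorphism _ h
  exact Function.Injective.of_comp h2

theorem basis_of {r : ℕ} (b₁ : Module.Basis (Fin r) R (M ⧸ epsM R M))
    (b₂ : Module.Basis (Fin r) R ((epsM R M).restrictScalars R)) :
    Nonempty (Module.Basis (Fin r) R[ε] M) := by
  have hinj := mulEps_injective b₁ b₂
  have hker : ∀ x : M, (ε : R[ε]) • x = 0 → x ∈ epsM R M := by
    intro x hx
    rw [← Submodule.Quotient.mk_eq_zero]
    apply hinj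
    rw [map_zero]
    exact Subtype.ext hx
  choose m hm using fun i => Submodule.Quotient.mk_surjective (epsM R M) (b₁ i)
  have hsum : ∀ c : Fin r → R, (Submodule.Quotient.mk (∑ i, c i • m i) : M ⧸ epsM R M) =
      ∑ i, c i • b₁ i := by
    intro c
    change Submodule.mkQ _ _ = _
    rw [map_sum]
    refine Finset.sum_congr rfl fun i _ => ?_
    rw [← hm i]
    rfl
  have hlin : ∀ c : Fin r → R, ∑ i, c i • m i ∈ epsM R M → ∀ i, c i = 0 := by
    intro c hc
    rw [← Submodule.Quotient.mk_eq_zero, hsum] at hc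
    exact Fintype.linearIndependent_iff.1 b₁.linearIndependent _ hc
  have hspan : ∀ x : M, ∃ (c : Fin r → R) (y : M), x = ∑ i, c i • m i + (ε : R[ε]) • y := by
    intro x
    have : x - ∑ i, (b₁.repr (Submodule.Quotient.mk x) i) • m i ∈ epsM R M := by
      rw [← Submodule.Quotient.mk_eq_zero, Submodule.Quotient.mk_sub, hsum, b₁.sum_repr, sub_self]
    obtain ⟨y, hy⟩ := mem_epsM.1 this
    exact ⟨_, y, by rw [hy]; abel⟩
  refine ⟨Module.Basis.mk (v := m) ?_ ?_⟩
  · rw [Fintype.linearIndependent_iff]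
    intro g hg
    have e1 : ∑ i, (g i).fst • m i + (ε : R[ε]) • ∑ i, (g i).snd • m i = 0 := by
      rw [← hg, Finset.smul_sum, ← Finset.sum_add_distrib]
      refine Finset.sum_congr rfl fun i _ => ?_
      rw [smul_eq (g i), smul_comm]
    have h1 : ∀ i, (g i).fst = 0 := by
      apply hlin
      rw [mem_epsM]
      refine ⟨- ∑ i, (g i).snd • m i, ?_⟩
      rw [smul_neg]
      exact neg_eq_of_add_eq_zero_left e1
    simp only [h1, zero_smul, Finset.sum_const_zero, zero_add] at e1
    have h2 := hlin _ (hker _ e1)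
    intro i
    exact TrivSqZeroExt.ext (h1 i) (h2 i)
  · rintro x -
    obtain ⟨c, y, rfl⟩ := hspan x
    obtain ⟨d, z, rfl⟩ := hspan y
    rw [smul_add, eps_smul_eps, add_zero, Finset.smul_sum]
    refine Submodule.add_mem _ (Submodule.sum_mem _ fun i _ => ?_) (Submodule.sum_mem _ fun i _ => ?_)
    · rw [← algebraMap_smul (R[ε]) (c i) (m i)]
      exact Submodule.smul_mem _ _ (Submodule.subset_span ⟨i, rfl⟩)
    · rw [← algebraMap_smul (R[ε]) (d i) (m i)]
      exact Submodule.smul_mem _ _ (Submodule.smul_mem _ _ (Submodule.subset_span ⟨i, rfl⟩))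

end K811.Dual
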