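import Groth.Statements.S14034
import Mathlib.LinearAlgebra.Basis.Basic
import Mathlib.LinearAlgebra.FreeModule.Finite.Basic
import Mathlib.LinearAlgebra.FreeModule.StrongRankCondition
import Mathlib.LinearAlgebra.Dimension.Constructions
import Mathlib.RingTheory.LocalRing.Module
import Mathlib.RingTheory.Nakayama
import Mathlib.Algebra.Exact.Basic

/-!
# Kernels of surjections from a free module over a local ring
-/

set_option autoImplicit false
universe u v

namespace K811.Ker

variable {R : Type u} [CommRing R]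

theorem basis_ker [IsLocalRing R] {F : Type v} [AddCommGroup F] [Module R F] {r t : ℕ}
    (b : Module.Basis (Fin t) R F) (ψ : (Fin r → R) →ₗ[R] F) (hψ : Function.Surjective ψ) :
    t ≤ r ∧ Nonempty (Module.Basis (Fin (r - t)) R (LinearMap.ker ψ)) := by
  have := Module.Finite.of_basis b
  have := Module.Free.of_basis b
  obtain ⟨g, hg⟩ := Module.projective_lifting_property ψ LinearMap.id hψ
  have hex : Function.Exact (LinearMap.ker ψ).subtype ψ := LinearMap.exact_subtype_ker_map ψ
  obtain ⟨e, he1, he2⟩ := Function.Exact.splitSurjectiveEquiv hex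
    (Submodule.injective_subtype _) ⟨g, hg⟩
  have hp : Module.Projective R (LinearMap.ker ψ) := by
    refine Module.Projective.of_split (LinearMap.ker ψ).subtype
      ((LinearMap.fst R _ _).comp e.toLinearMap) ?_
    rw [he1]
    ext x
    simp
  have hfin : Module.Finite R (LinearMap.ker ψ) :=
    Module.Finite.of_surjective ((LinearMap.fst R _ _).comp e.toLinearMap)
      (Prod.fst_surjective.comp e.surjective)
  have hfree : Module.Free R (LinearMap.ker ψ) := Module.free_of_flat_of_isLocalRing
  have hr : Module.finrank R (LinearMap.ker ψ) + t = r := by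
    have h1 := e.finrank_eq
    rw [Module.finrank_prod, Module.finrank_fin_fun, Module.finrank_eq_card_basis b,
      Fintype.card_fin] at h1
    exact h1.symm
  refine ⟨by omega, ⟨Module.finBasisOfFinrankEq R _ (by omega)⟩⟩

/-- The submodule spanned by the `f e_i`. -/
abbrev P (f : R) {s l : ℕ} (hls : l ≤ s) : Submodule R (Fin s → R) :=
  Submodule.span R (Set.range fun i : Fin l => (Pi.single (Fin.castLE hls i) f : Fin s → R))

theorem P_zero_eq (f : R) {s l : ℕ} (hls : l ≤ s) (h : l = 0) : P f hls = ⊥ := by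
  subst h
  rw [P, Set.range_eq_empty, Submodule.span_empty]

theorem mem_P_unit {f : R} (hf : IsUnit f) {s l : ℕ} (hls : l ≤ s) (v : Fin s → R) :
    v ∈ P f hls ↔ ∀ i : Fin s, l ≤ i → v i = 0 := by
  constructor
  · intro hv i hi
    induction hv using Submodule.span_induction with
    | mem x hx =>
      obtain ⟨j, rfl⟩ := hx
      change (Pi.single (Fin.castLE hls j) f : Fin s → R) i = 0
      rw [Pi.single_apply, if_neg]
      rintro rfl
      have := j.2
      simp only [Fin.val_castLE] at hi
      omega
    | zero => rfl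
    | add x y _ _ hx hy => rw [Pi.add_apply, hx, hy, add_zero]
    | smul a x _ hx => rw [Pi.smul_apply, hx, smul_zero]
  · intro h
    rw [pi_eq_sum_univ' v]
    refine Submodule.sum_mem _ fun i _ => ?_
    by_cases hi : l ≤ i
    · rw [h i hi]; simp
    · obtain ⟨u, rfl⟩ := hf
      have : v i • (Pi.single i (1 : R) : Fin s → R) = (v i * ↑u⁻¹) • (Pi.single i (u : R)) := by
        rw [← Pi.single_smul, ← Pi.single_smul, smul_eq_mul, smul_eq_mul, mul_one]
        simp
      rw [this]
      exact Submodule.smul_mem _ _ (Submodule.subset_span ⟨⟨i, by omega⟩, rfl⟩)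

theorem basis_quot_unit {f : R} (hf : IsUnit f) {s l : ℕ} (hls : l ≤ s) :
    Nonempty (Module.Basis (Fin (s - l)) R ((Fin s → R) ⧸ P f hls)) := by
  let ρ : (Fin s → R) →ₗ[R] (Fin (s - l) → R) :=
    LinearMap.funLeft R R (fun j : Fin (s - l) => (⟨l + j, by omega⟩ : Fin s))
  have hρ : Function.Surjective ρ := by
    apply LinearMap.funLeft_surjective_of_injective
    intro a b hab
    simp only [Fin.mk.injEq, Nat.add_left_cancel_iff] at hab
    exact Fin.ext hab
  have hker : P f hls = LinearMap.ker ρ := by
    ext v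
    rw [mem_P_unit hf hls, LinearMap.mem_ker]
    constructor
    · intro h
      ext j
      exact h _ (Nat.le_add_right _ _)
    · intro h i hi
      have := congrFun h ⟨i - l, by omega⟩
      simp only [ρ, LinearMap.funLeft_apply, Pi.zero_apply] at this
      rw [← this]
      congr 1
      ext
      simp only
      omega
  exact ⟨(Pi.basisFun R (Fin (s - l))).map
    ((Submodule.quotEquivOfEq _ _ hker).trans (ρ.quotKerEquivOfSurjective hρ)).symm⟩

theorem ker_isNRFree_of_mem [IsNoetherianRing R] [IsLocalRing R] (f : R)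
    (hfm : f ∈ IsLocalRing.maximalIdeal R)
    (hann : ∀ a : R, a * f = 0 → IsNilpotent a) (r s l : ℕ) (hls : l ≤ s)
    (φ : (Fin r → R) →ₗ[R] ((Fin s → R) ⧸ P f hls))
    (hφ : Function.Surjective φ) :
    W4c1frobunstiva.IsNRFree R (LinearMap.ker φ) (r + l - s) := by
  obtain ⟨ψ, hψ⟩ := Module.projective_lifting_property (P f hls).mkQ φ (Submodule.mkQ_surjective _)
  have hPm : P f hls ≤ IsLocalRing.maximalIdeal R • (⊤ : Submodule R (Fin s → R)) := by
    rw [P, Submodule.span_le]
    rintro _ ⟨i, rfl⟩
    have : (Pi.single (Fin.castLE hls i) f : Fin s → R) =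
        f • (Pi.single (Fin.castLE hls i) (1 : R)) := by
      rw [← Pi.single_smul, smul_eq_mul, mul_one]
    change (Pi.single (Fin.castLE hls i) f : Fin s → R) ∈ _
    rw [this]
    exact Submodule.smul_mem_smul hfm trivial
  have hψs : Function.Surjective ψ := by
    rw [← LinearMap.range_eq_top, eq_top_iff]
    refine Submodule.le_of_le_smul_of_le_jacobson_bot (I := IsLocalRing.maximalIdeal R)
      Module.Finite.fg_top (IsLocalRing.maximalIdeal_le_jacobson _) ?_
    rintro x -
    obtain ⟨y, hy⟩ := hφ (Submodule.Quotient.mk x)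
    have : x - ψ y ∈ P f hls := by
      rw [← Submodule.Quotient.mk_eq_zero, Submodule.Quotient.mk_sub, sub_eq_zero, ← hy, ← hψ]
      rfl
    have e : x = ψ y + (x - ψ y) := by abel
    rw [e]
    exact Submodule.add_mem_sup ⟨y, rfl⟩ (hPm this)
  obtain ⟨hsr, ⟨k⟩⟩ := basis_ker (Pi.basisFun R (Fin s)) ψ hψs
  choose e he using fun i : Fin l => hψs (Pi.single (Fin.castLE hls i) 1)
  have hkφ : ∀ x, ψ x = 0 → x ∈ LinearMap.ker φ := by
    intro x hx
    rw [LinearMap.mem_ker, ← hψ, LinearMap.comp_apply, hx, map_zero]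
  have heφ : ∀ i, f • e i ∈ LinearMap.ker φ := by
    intro i
    rw [LinearMap.mem_ker, ← hψ, LinearMap.comp_apply, map_smul, he, ← Pi.single_smul,
      smul_eq_mul, mul_one, Submodule.mkQ_apply, Submodule.Quotient.mk_eq_zero]
    exact Submodule.subset_span ⟨i, rfl⟩
  let g : Fin (r - s) ⊕ Fin l → LinearMap.ker φ :=
    Sum.elim (fun i => ⟨(k i : Fin r → R), hkφ _ (k i).2⟩) (fun i => ⟨f • e i, heφ i⟩)
  have hc : r + l - s = (r - s) + l := by omega
  rw [hc]
  refine ⟨g ∘ finSumFinEquiv.symm, ?_, ?_⟩
  · rw [eq_top_iff]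
    rintro ⟨x, hx⟩ -
    rw [EquivLike.range_comp g finSumFinEquiv.symm]
    have h1 : ψ x ∈ P f hls := by
      rw [← Submodule.Quotient.mk_eq_zero]
      rw [LinearMap.mem_ker, ← hψ] at hx
      exact hx
    rw [P, Submodule.mem_span_range_iff_exists_fun] at h1
    obtain ⟨c, hc⟩ := h1
    have h2 : ψ (x - ∑ i, c i • f • e i) = 0 := by
      rw [map_sub, map_sum, ← hc, sub_eq_zero]
      refine Finset.sum_congr rfl fun i _ => ?_
      rw [map_smul, map_smul, he]
      have : (Pi.single (Fin.castLE hls i) f : Fin s → R) =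
          f • (Pi.single (Fin.castLE hls i) (1 : R)) := by
        rw [← Pi.single_smul, smul_eq_mul, mul_one]
      rw [this]
    have h3 := k.sum_repr ⟨x - ∑ i, c i • f • e i, h2⟩
    have h4 := congrArg (fun z => ((z : LinearMap.ker ψ) : Fin r → R)) h3
    simp only [Submodule.coe_sum, Submodule.coe_smul] at h4
    have h5 : (⟨x, hx⟩ : LinearMap.ker φ) =
        ∑ i, k.repr ⟨x - ∑ i, c i • f • e i, h2⟩ i • g (Sum.inl i) + ∑ i, c i • g (Sum.inr i) := by
      apply Subtype.ext
      simp only [Submodule.coe_add, Submodule.coe_sum, Submodule.coe_smul, g, Sum.elim_inl,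
        Sum.elim_inr]
      rw [h4]
      abel
    rw [h5]
    exact Submodule.add_mem _
      (Submodule.sum_mem _ fun i _ => Submodule.smul_mem _ _ (Submodule.subset_span ⟨_, rfl⟩))
      (Submodule.sum_mem _ fun i _ => Submodule.smul_mem _ _ (Submodule.subset_span ⟨_, rfl⟩))
  · intro a ha
    have e1 : ∑ i, a (finSumFinEquiv i) • g i = 0 := by
      rw [← ha]
      refine Fintype.sum_equiv finSumFinEquiv _ _ fun i => ?_
      simp
    rw [Fintype.sum_sum_type] at e1
    have e2 := congrArg (fun z => ψ ((z : LinearMap.ker φ) : Fin r → R)) e1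
    simp only [Submodule.coe_add, Submodule.coe_sum, Submodule.coe_smul, g, Sum.elim_inl,
        Sum.elim_inr, map_add, map_sum, map_smul, LinearMap.map_coe_ker, smul_zero, 
        Finset.sum_const_zero, zero_add, he, ZeroMemClass.coe_zero, map_zero] at e2
    have e3 : ∀ i, a (finSumFinEquiv (Sum.inr i)) * f = 0 := by
      intro i
      have := congrFun e2 (Fin.castLE hls i)
      simpa [Finset.sum_apply, Pi.single_apply] using this
    have e4 : ∑ i, a (finSumFinEquiv (Sum.inl i)) • k i = 0 := by
      apply Subtype.ext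
      have e5 := congrArg (fun z => ((z : LinearMap.ker φ) : Fin r → R)) e1
      simp only [Submodule.coe_add, Submodule.coe_sum, Submodule.coe_smul, g, Sum.elim_inl,
        Sum.elim_inr, smul_smul, e3, zero_smul, Finset.sum_const_zero, add_zero] at e5
      simpa using e5
    intro i
    obtain ⟨i, rfl⟩ := finSumFinEquiv.surjective i
    rcases i with i | i
    · rw [Fintype.linearIndependent_iff.1 k.linearIndependent _ e4 i]
      exact IsNilpotent.zero
    · exact hann _ (e3 i)

theorem main [IsNoetherianRing R] [IsLocalRing R] (f : R)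
    (hann : ∀ a : R, a * f = 0 → IsNilpotent a) (r s l : ℕ) (hls : l ≤ s)
    (φ : (Fin r → R) →ₗ[R] ((Fin s → R) ⧸ P f hls))
    (hφ : Function.Surjective φ) :
    W4c1frobunstiva.IsNRFree R (LinearMap.ker φ) (r + l - s) ∧
      (l = 0 → Nonempty (Module.Basis (Fin (r - s)) R (LinearMap.ker φ))) := by
  constructor
  · by_cases hf : IsUnit f
    · obtain ⟨b⟩ := basis_quot_unit hf hls
      obtain ⟨hle, ⟨k⟩⟩ := basis_ker b φ hφ
      have hc : r + l - s = r - (s - l) := by omega
      rw [hc]
      exact ⟨k, k.span_eq, fun a ha i => by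
        rw [Fintype.linearIndependent_iff.1 k.linearIndependent _ ha i]
        exact IsNilpotent.zero⟩
    · exact ker_isNRFree_of_mem f hf hann r s l hls φ hφ
  · intro hl
    exact (basis_ker ((Pi.basisFun R (Fin s)).map
      (Submodule.quotEquivOfEqBot _ (P_zero_eq f hls hl)).symm) φ hφ).2

end K811.Ker
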