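import Groth.Statements.S14035
import Mathlib.RingTheory.Flat.Equalizer
import Mathlib.RingTheory.Flat.TorsionFree
import Mathlib.RingTheory.LocalRing.Module
import Mathlib.RingTheory.Support
import Mathlib.RingTheory.LocalRing.ResidueField.Ideal
import Mathlib.RingTheory.DiscreteValuationRing.Basic
import Mathlib.RingTheory.Nilpotent.Lemmas

/-!
# Reducedness from flatness of the reduction and reduced fibres
-/

set_option autoImplicit false
universe u v

open TensorProduct

namespace K811.Red

theorem inj_aux (A : Type u) (B : Type v)
    [CommRing A] [CommRing B] [Algebra A B] (n : Ideal B) [Module.Flat A (B ⧸ n)]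
    (K : Type u) [AddCommGroup K] [Module A K] :
    Function.Injective (LinearMap.lTensor K (n.subtype.restrictScalars A)) :=
  LinearMap.lTensor_injective_of_exact_of_flat (R := A)
      ((n.mkQ).restrictScalars A) (Submodule.mkQ_surjective _)
      ((n.subtype).restrictScalars A) (Submodule.injective_subtype _)
      (LinearMap.exact_subtype_mkQ n) K

theorem isReduced_of_flat (A : Type u) (B : Type v)
    [CommRing A] [CommRing B] [Algebra A B] [IsNoetherianRing B]
    [Module.Flat A (B ⧸ nilradical B)]
    (hfib : ∀ p : PrimeSpectrum A, IsReduced (p.asIdeal.ResidueField ⊗[A] B)) :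
    IsReduced B := by
  have hsub : ∀ p : PrimeSpectrum A,
      Subsingleton (p.asIdeal.ResidueField ⊗[A] (nilradical B)) := by
    intro p
    have hinj := inj_aux A B (nilradical B) p.asIdeal.ResidueField
    refine ⟨fun a b => hinj ?_⟩
    have h0 : ∀ a, (LinearMap.lTensor p.asIdeal.ResidueField
        (((nilradical B).subtype).restrictScalars A)) a = 0 := by
      intro a
      have hred := hfib p
      rw [← isNilpotent_iff_eq_zero]
      induction a using TensorProduct.induction_on with
      | zero => rw [map_zero]; exact IsNilpotent.zero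
      | tmul c x =>
        rw [LinearMap.lTensor_tmul]
        obtain ⟨k, hk⟩ := mem_nilradical.1 x.2
        refine ⟨k, ?_⟩
        change (c ⊗ₜ[A] (x : B)) ^ k = 0
        rw [Algebra.TensorProduct.tmul_pow, hk, tmul_zero]
      | add x y hx hy =>
        rw [map_add]
        exact (Commute.all _ _).isNilpotent_add hx hy
    rw [h0 a, h0 b]
  have hn : Subsingleton (nilradical B) := by
    rw [← Module.support_eq_empty_iff (R := B), Set.eq_empty_iff_forall_notMem]
    intro q hq
    rw [Module.mem_support_iff_nontrivial_residueField_tensorProduct] at hq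
    apply not_subsingleton (q.asIdeal.ResidueField ⊗[B] (nilradical B))
    have hp := hsub (PrimeSpectrum.comap (algebraMap A B) q)
    let σ : (PrimeSpectrum.comap (algebraMap A B) q).asIdeal.ResidueField →+*
      q.asIdeal.ResidueField := Ideal.ResidueField.map _ _ (algebraMap A B) rfl
    have hσ : ∀ a, σ (algebraMap A _ a) = algebraMap A _ a := by
      intro a
      rw [IsScalarTower.algebraMap_apply A B q.asIdeal.ResidueField]
      exact Ideal.ResidueField.map_algebraMap _ _ _ _ _
    let σ' : (PrimeSpectrum.comap (algebraMap A B) q).asIdeal.ResidueField →ₗ[A]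
      q.asIdeal.ResidueField :=
      { toFun := σ
        map_add' := map_add σ
        map_smul' := fun a x => by
          rw [Algebra.smul_def, map_mul, hσ, Algebra.smul_def]
          rfl }
    let m : (PrimeSpectrum.comap (algebraMap A B) q).asIdeal.ResidueField ⊗[A] (nilradical B) →ₗ[A]
        q.asIdeal.ResidueField ⊗[B] (nilradical B) :=
      TensorProduct.lift
        { toFun := fun c =>
            ((TensorProduct.mk B q.asIdeal.ResidueField (nilradical B) (σ' c)).restrictScalars A)
          map_add' := fun c d => by
            ext x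
            change σ (c + d) ⊗ₜ[B] x = σ c ⊗ₜ[B] x + σ d ⊗ₜ[B] x
            rw [map_add, add_tmul]
          map_smul' := fun a c => by
            ext x
            simp only [map_smul, LinearMap.coe_restrictScalars, mk_apply, RingHom.id_apply,
              LinearMap.smul_apply]
            rfl }
    have hm : ∀ x : nilradical B, (1 : q.asIdeal.ResidueField) ⊗ₜ[B] x = 0 := by
      intro x
      have : m (1 ⊗ₜ[A] x) = 1 ⊗ₜ[B] x := by
        simp only [m, TensorProduct.lift.tmul]
        change σ 1 ⊗ₜ[B] x = _
        rw [map_one]
      rw [← this, Subsingleton.elim ((1 : (PrimeSpectrum.comap (algebraMap A B) q).asIdeal.ResidueField) ⊗ₜ[A] x) 0, map_zero]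
    refine subsingleton_of_forall_eq 0 fun y => ?_
    induction y using TensorProduct.induction_on with
    | zero => rfl
    | tmul c x =>
      have : c ⊗ₜ[B] x = c • ((1 : q.asIdeal.ResidueField) ⊗ₜ[B] x) := by
        rw [smul_tmul', smul_eq_mul, mul_one]
      rw [this, hm, smul_zero]
    | add x y hx hy => rw [hx, hy, add_zero]
  refine ⟨fun x hx => ?_⟩
  have := Subsingleton.elim (⟨x, mem_nilradical.2 hx⟩ : nilradical B) 0
  exact congrArg Subtype.val this

theorem isReduced_flat_dvr (A : Type u) [CommRing A]
    [IsDomain A] [IsDiscreteValuationRing A] (B : Type v) [CommRing B] [Algebra A B]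
    [IsNoetherianRing B] (hirr : (nilradical B).IsPrime)
    (hdom : (nilradical B).comap (algebraMap A B) = ⊥)
    (hfib : ∀ p : PrimeSpectrum A, IsReduced (p.asIdeal.ResidueField ⊗[A] B)) :
    IsReduced B ∧ Module.Flat A B := by
  have hd : IsDomain (B ⧸ nilradical B) := Ideal.Quotient.isDomain _
  have hinj : Function.Injective (algebraMap A (B ⧸ nilradical B)) := by
    rw [injective_iff_map_eq_zero]
    intro a ha
    rw [IsScalarTower.algebraMap_apply A B (B ⧸ nilradical B), Ideal.Quotient.algebraMap_eq,
      Ideal.Quotient.eq_zero_iff_mem] at ha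
    have : a ∈ (nilradical B).comap (algebraMap A B) := ha
    rwa [hdom] at this
  have hfs : FaithfulSMul A (B ⧸ nilradical B) :=
    (faithfulSMul_iff_algebraMap_injective _ _).2 hinj
  have htf : Module.IsTorsionFree A (B ⧸ nilradical B) := inferInstance
  have hfl : Module.Flat A (B ⧸ nilradical B) := inferInstance
  have hr := isReduced_of_flat A B hfib
  refine ⟨hr, ?_⟩
  have h0 : nilradical B = ⊥ := nilradical_eq_zero B
  exact Module.Flat.of_linearEquiv
    ((Submodule.quotEquivOfEqBot (nilradical B) h0).symm.restrictScalars A)

end K811.Red
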