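import Groth.Agent.FrobAlg.K674.RelMain
import Mathlib.RingTheory.Smooth.Basic
import Mathlib.RingTheory.RingHom.Flat

/-!
# Transport of the relative Frobenius along ring isomorphisms, universe independence of flatness
-/

set_option autoImplicit false
universe u v u' v'
open TensorProduct FrobAlg

namespace K811.FrobUniv

section

variable (p : ℕ) [Fact p.Prime] {A : Type u} [CommRing A] [CharP A p] {B : Type v} [CommRing B]
  [CharP B p] [Algebra A B] {A' : Type u'} [CommRing A'] [CharP A' p] {B' : Type v'} [CommRing B']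
  [CharP B' p] [Algebra A' B']

theorem relFrob_tmul (b : B) (a : A) :
    relFrob p A B (b ⊗ₜ toTwist p A a) = b ^ p * algebraMap A B a := rfl

omit [CharP B p] [CharP B' p] in
/-- The comparison map. -/
theorem exists_cmp (eA : A →+* A') (eB : B →+* B')
    (h : ∀ a, eB (algebraMap A B a) = algebraMap A' B' (eA a)) :
    ∃ c : B ⊗[A] Twist p A →+* B' ⊗[A'] Twist p A', ∀ (b : B) (a : A),
      c (b ⊗ₜ toTwist p A a) = eB b ⊗ₜ toTwist p A' (eA a) := by
  letI : Algebra A (B' ⊗[A'] Twist p A') :=
    ((algebraMap A' (B' ⊗[A'] Twist p A')).comp eA).toAlgebra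
  let f : B →ₐ[A] B' ⊗[A'] Twist p A' :=
    { toRingHom := (Algebra.TensorProduct.includeLeftRingHom).comp eB
      commutes' := fun a => by
        change (eB (algebraMap A B a)) ⊗ₜ[A'] (1 : Twist p A') = (algebraMap A' B' (eA a)) ⊗ₜ[A'] 1
        rw [h] }
  let g : Twist p A →ₐ[A] B' ⊗[A'] Twist p A' :=
    { toRingHom := (Algebra.TensorProduct.includeRight (R := A') (A := B')
        (B := Twist p A')).toRingHom.comp
        ((toTwist p A').toRingHom.comp (eA.comp (toTwist p A).symm.toRingHom))
      commutes' := fun a => by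
        change (1 : B') ⊗ₜ[A'] (toTwist p A' (eA (a ^ p))) =
          (algebraMap A' B' (eA a)) ⊗ₜ[A'] (1 : Twist p A')
        rw [map_pow, ← algebraMap_twist, Algebra.algebraMap_eq_smul_one, Algebra.algebraMap_eq_smul_one,
          TensorProduct.smul_tmul] }
  refine ⟨(Algebra.TensorProduct.lift f g (fun _ _ => Commute.all _ _)).toRingHom, fun b a => ?_⟩
  change f b * g (toTwist p A a) = _
  change (eB b ⊗ₜ[A'] (1 : Twist p A')) * ((1 : B') ⊗ₜ[A'] toTwist p A' (eA a)) = _
  rw [Algebra.TensorProduct.tmul_mul_tmul, mul_one, one_mul]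

/-- Flatness of the relative Frobenius is invariant under isomorphism. -/
theorem flat_iff_of_equiv (eA : A ≃+* A') (eB : B ≃+* B')
    (h : ∀ a, eB (algebraMap A B a) = algebraMap A' B' (eA a))
    (hf : (relFrob p A' B').Flat) : (relFrob p A B).Flat := by
  obtain ⟨c, hc⟩ := exists_cmp p (eA : A →+* A') (eB : B →+* B') h
  have h' : ∀ a : A', eB.symm (algebraMap A' B' a) = algebraMap A B (eA.symm a) := fun a => by
    rw [RingEquiv.symm_apply_eq, h, RingEquiv.apply_symm_apply]
  obtain ⟨c', hc'⟩ := exists_cmp p (eA.symm : A' →+* A) (eB.symm : B' →+* B) h'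
  have h1 : ∀ x, c' (c x) = x := fun x => by
    induction x using TensorProduct.induction_on with
    | zero => rw [map_zero, map_zero]
    | tmul b a =>
      obtain ⟨a, rfl⟩ := (toTwist p A).surjective a
      rw [hc, hc']
      change (eB.symm (eB b)) ⊗ₜ toTwist p A (eA.symm (eA a)) = _
      rw [RingEquiv.symm_apply_apply, RingEquiv.symm_apply_apply]
    | add x y hx hy => rw [map_add, map_add, hx, hy]
  have h2 : ∀ x, c (c' x) = x := fun x => by
    induction x using TensorProduct.induction_on with
    | zero => rw [map_zero, map_zero]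
    | tmul b a =>
      obtain ⟨a, rfl⟩ := (toTwist p A').surjective a
      rw [hc', hc]
      change (eB (eB.symm b)) ⊗ₜ toTwist p A' (eA (eA.symm a)) = _
      rw [RingEquiv.apply_symm_apply, RingEquiv.apply_symm_apply]
    | add x y hx hy => rw [map_add, map_add, hx, hy]
  have h3 : c.Flat := RingHom.Flat.of_bijective (Function.bijective_iff_has_inverse.2 ⟨c', h1, h2⟩)
  have h4 : (eB.symm : B' →+* B).Flat := RingHom.Flat.of_bijective eB.symm.bijective
  have h5 : relFrob p A B = (eB.symm : B' →+* B).comp ((relFrob p A' B').comp c) := by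
    refine RingHom.ext fun x => ?_
    induction x using TensorProduct.induction_on with
    | zero => rw [map_zero, map_zero]
    | tmul b a =>
      obtain ⟨a, rfl⟩ := (toTwist p A).surjective a
      change _ = eB.symm (relFrob p A' B' (c (b ⊗ₜ toTwist p A a)))
      rw [hc, relFrob_tmul, relFrob_tmul]
      change _ = eB.symm ((eB b) ^ p * algebraMap A' B' (eA a))
      rw [map_mul, map_pow, RingEquiv.symm_apply_apply, h', RingEquiv.symm_apply_apply]
    | add x y hx hy => rw [map_add, map_add, hx, hy]
  rw [h5]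
  exact (h3.comp hf).comp h4

end

section

variable {A : Type u} [CommRing A] {B : Type v} [CommRing B] [Algebra A B] {A' : Type u'} [CommRing A']
  {B' : Type v'} [CommRing B'] [Algebra A' B']

/-- Smoothness is invariant under isomorphism of the base. -/
theorem smooth_of_equiv (eA : A ≃+* A') (eB : B ≃+* B')
    (h : ∀ a, eB (algebraMap A B a) = algebraMap A' B' (eA a)) [Algebra.Smooth A B] :
    Algebra.Smooth A' B' := by
  letI : Algebra A B' := ((algebraMap A' B').comp (eA : A →+* A')).toAlgebra
  let e1 : B ≃ₐ[A] B' := { eB with commutes' := h }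
  have h1 : Algebra.Smooth A B' := Algebra.Smooth.of_equiv e1
  letI : Algebra A' A := (eA.symm : A' →+* A).toAlgebra
  let e : A' ≃ₐ[A'] A := { eA.symm with commutes' := fun a => rfl }
  have h2 : Algebra.Smooth A' A := Algebra.Smooth.of_equiv e
  have : IsScalarTower A' A B' := IsScalarTower.of_algebraMap_eq fun a => by
    change _ = algebraMap A' B' (eA (eA.symm a))
    rw [RingEquiv.apply_symm_apply]
  exact Algebra.Smooth.comp A' A B'

end

/-- **The relative Frobenius of a smooth algebra is flat** (arbitrary universes). -/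
theorem flat (p : ℕ) [Fact p.Prime] (A : Type u) [CommRing A] [CharP A p] (B : Type v) [CommRing B]
    [CharP B p] [Algebra A B] [Algebra.Smooth A B] : (relFrob p A B).Flat := by
  letI : Algebra (ULift.{v} A) (ULift.{u} B) :=
    (((ULift.ringEquiv : ULift.{u} B ≃+* B).symm : B →+* ULift.{u} B).comp
      ((algebraMap A B).comp ((ULift.ringEquiv : ULift.{v} A ≃+* A) : ULift.{v} A →+* A))).toAlgebra
  have h : ∀ a, (ULift.ringEquiv : ULift.{u} B ≃+* B).symm (algebraMap A B a) =
    algebraMap (ULift.{v} A) (ULift.{u} B) ((ULift.ringEquiv : ULift.{v} A ≃+* A).symm a) := fun a => rfl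
  have := smooth_of_equiv (ULift.ringEquiv : ULift.{v} A ≃+* A).symm
    (ULift.ringEquiv : ULift.{u} B ≃+* B).symm h
  exact flat_iff_of_equiv p (ULift.ringEquiv : ULift.{v} A ≃+* A).symm
    (ULift.ringEquiv : ULift.{u} B ≃+* B).symm h (K674.RelMain.flat p (ULift.{v} A) (ULift.{u} B))

end K811.FrobUniv
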