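import Groth.Agent.W4c1frobunstiva.K811.ProperC
import Groth.Agent.S0384
import Groth.Agent.S0388
import Groth.Agent.S0086
import Mathlib.AlgebraicGeometry.Geometrically.Connected
import Mathlib.AlgebraicGeometry.Morphisms.Immersion
import Mathlib.AlgebraicGeometry.Normalization

/-!
# Properness from proper connected geometric fibres over a normal base
-/

set_option autoImplicit false
universe u v
open CategoryTheory CategoryTheory.Limits AlgebraicGeometry

namespace K811.ProperD

open K811.ProperB K811.ProperC

/-- Fibres over `κ(y)` are proper. -/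
theorem isProper_fibre {X Y : Scheme.{u}} (f : X ⟶ Y)
    (hfib : ∀ (Ω : Type u) [Field Ω] [IsAlgClosed Ω] (y : Spec (CommRingCat.of Ω) ⟶ Y),
      IsProper (pullback.snd f y)) (y : Y) : IsProper (pullback.snd f (Y.fromSpecResidueField y)) := by
  let Ω := AlgebraicClosure (Y.residueField y)
  let a : Spec (CommRingCat.of Ω) ⟶ Spec (Y.residueField y) :=
    Spec.map (CommRingCat.ofHom (algebraMap (Y.residueField y) Ω))
  have h1 : IsProper (pullback.snd (pullback.snd f (Y.fromSpecResidueField y)) a) := by
    have h2 := hfib Ω (a ≫ Y.fromSpecResidueField y)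
    rw [← pullbackLeftPullbackSndIso_hom_snd]
    infer_instance
  have := Groth.Agent.S0086.result.{u}
  refine MorphismProperty.of_pullback_snd_of_descendsAlong (P := @IsProper)
    (Q := @Surjective ⊓ @Flat ⊓ @QuasiCompact) ?_ h1
  have hs : Surjective a := by
    refine ⟨fun p => ⟨(⊥ : PrimeSpectrum Ω),
      Subsingleton.elim (α := PrimeSpectrum (Y.residueField y)) _ _⟩⟩
  have hf : Flat a := by
    rw [Flat.SpecMap_iff]
    change (algebraMap (Y.residueField y) Ω).Flat
    rw [RingHom.flat_algebraMap_iff]
    infer_instance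
  exact ⟨⟨hs, hf⟩, inferInstance⟩

theorem surjective_of_fibres {X P Y : Scheme.{u}} (j : X ⟶ P) [IsOpenImmersion j] (p : P ⟶ Y)
    [IsProper p] (y : Y) (hy : y ∈ Set.range (j ≫ p))
    (hf : IsProper (pullback.snd (j ≫ p) (Y.fromSpecResidueField y)))
    (hc : _root_.IsConnected (p ⁻¹' {y})) (x : P) (hx : p x = y) : x ∈ Set.range j := by
  let i := Y.fromSpecResidueField y
  let w : pullback (j ≫ p) i ⟶ pullback p i :=
    pullback.lift (pullback.fst _ _ ≫ j) (pullback.snd _ _)
      (by rw [Category.assoc, pullback.condition])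
  have hw : w ≫ pullback.snd p i = pullback.snd (j ≫ p) i := pullback.lift_snd _ _ _
  have hwp : IsProper w := by
    have : IsProper (w ≫ pullback.snd p i) := by rw [hw]; exact hf
    exact IsProper.of_comp w (pullback.snd p i)
  have hrange : Set.range w = (pullback.fst p i) ⁻¹' (Set.range j) := by
    have e1 : (pullbackRightPullbackFstIso p i j).hom ≫ w = pullback.snd j (pullback.fst p i) := by
      apply pullback.hom_ext
      · rw [Category.assoc, pullback.lift_fst, pullbackRightPullbackFstIso_hom_fst_assoc,
          pullback.condition]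
      · rw [Category.assoc, pullback.lift_snd, pullbackRightPullbackFstIso_hom_snd]
    rw [← Scheme.Pullback.range_snd, ← e1, Scheme.Hom.comp_base]
    have hs : Function.Surjective (pullbackRightPullbackFstIso p i j).hom :=
      (Scheme.homeoOfIso (pullbackRightPullbackFstIso p i j)).surjective
    exact (hs.range_comp w).symm
  have hclopen : IsClopen (Set.range w) := by
    refine ⟨w.isClosedMap.isClosed_range, ?_⟩
    rw [hrange]
    exact j.isOpenEmbedding.isOpen_range.preimage (pullback.fst p i).continuous
  have hconn : ConnectedSpace ↥(pullback p i) := by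
    have := isConnected_iff_connectedSpace.1 hc
    exact (p.fiberHomeo y).symm.surjective.connectedSpace (p.fiberHomeo y).symm.continuous
  have huniv : Set.range w = Set.univ := by
    rcases isClopen_iff.1 hclopen with h | h
    · exfalso
      obtain ⟨z, hz⟩ := hy
      have h1 : ((j ≫ p).fiberHomeo y).symm ⟨z, hz⟩ ∈ (Set.univ : Set ((j ≫ p).fiber y)) := trivial
      have h2 : w (((j ≫ p).fiberHomeo y).symm ⟨z, hz⟩) ∈ Set.range w := ⟨_, rfl⟩
      rw [h] at h2
      exact h2
    · exact h
  have h3 : (p.fiberHomeo y).symm ⟨x, hx⟩ ∈ Set.range w := by rw [huniv]; trivial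
  rw [hrange] at h3
  have h4 : pullback.fst p i ((p.fiberHomeo y).symm ⟨x, hx⟩) = x := p.fiberι_fiberHomeo_symm y ⟨x, hx⟩
  obtain ⟨x', hx'⟩ := h3
  exact ⟨x', hx'.trans h4⟩

theorem main {X Y : Scheme.{u}}
    (f : X ⟶ Y) [IsSeparated f] [LocallyOfFiniteType f] [QuasiCompact f]
    [IsIntegral X] [IsIntegral Y] [IsNoetherian Y] (hY : Pi1.IsNormalScheme Y)
    (hfib : ∀ (Ω : Type u) [Field Ω] [IsAlgClosed Ω] (y : Spec (CommRingCat.of Ω) ⟶ Y),
      IsProper (pullback.snd f y) ∧ ConnectedSpace ↥(pullback f y)) :
    IsProper f := by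
  obtain ⟨P₀, j₀, p₀, hj, hjq, hp, hf⟩ := Groth.Agent.S0384.result f
  let P := j₀.image
  let j : X ⟶ P := j₀.toImage
  let p : P ⟶ Y := j₀.imageι ≫ p₀
  have hjp : j ≫ p = f := by
    simp only [j, p]
    rw [← Category.assoc, Scheme.Hom.toImage_imageι, hf]
  have hP : IsIntegral P := Groth.Agent.Ega2.Normal.isIntegral_image j₀
  have hpp : IsProper p := inferInstance
  have hjo : IsOpenImmersion j := inferInstance
  have hjd : IsDominant j := inferInstance
  have hsurj : ∀ y : Y, y ∈ Set.range f := by
    intro y
    let Ω := AlgebraicClosure (Y.residueField y)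
    let a : Spec (CommRingCat.of Ω) ⟶ Spec (Y.residueField y) :=
      Spec.map (CommRingCat.ofHom (algebraMap (Y.residueField y) Ω))
    obtain ⟨z⟩ := (hfib Ω (a ≫ Y.fromSpecResidueField y)).2.toNonempty
    refine ⟨pullback.fst f _ z, ?_⟩
    rw [← Scheme.Hom.comp_apply, pullback.condition, Scheme.Hom.comp_apply,
      Scheme.Hom.comp_apply]
    have := Y.range_fromSpecResidueField y
    have h1 : Y.fromSpecResidueField y (a (pullback.snd f (a ≫ Y.fromSpecResidueField y) z)) ∈
      Set.range (Y.fromSpecResidueField y) := ⟨_, rfl⟩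
    rw [this] at h1
    exact h1
  have hfd : IsDominant f := by
    have : Surjective f := ⟨hsurj⟩
    infer_instance
  let h₀ : P ⟶ p.normalization := p.toNormalization
  let g : p.normalization ⟶ Y := p.fromNormalization
  have hg : h₀ ≫ g = p := p.toNormalization_fromNormalization
  have hfg : (j ≫ h₀) ≫ g = f := by rw [Category.assoc, hg, hjp]
  have hgd : IsDominant g := by
    have : IsDominant ((j ≫ h₀) ≫ g) := by rw [hfg]; exact hfd
    exact IsDominant.of_comp (j ≫ h₀) g
  have hinj : Function.Injective g := by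
    refine injective_of_pow g (pow_mem hY g fun Ω _ _ y hy => ?_)
    refine connected_pullback (j ≫ h₀) g y ?_
    rw [hfg]
    exact (hfib Ω y).2
  have hgc : GeometricallyConnected h₀ := (Groth.Agent.S0388.result p).1
  have hjs : Function.Surjective j := by
    intro x
    have hy := hsurj (p x)
    rw [← hjp] at hy
    refine surjective_of_fibres j p (p x) hy ?_ ?_ x rfl
    · rw [hjp]
      exact isProper_fibre f (fun Ω _ _ y => (hfib Ω y).1) (p x)
    · have h1 : p ⁻¹' {p x} = h₀ ⁻¹' {h₀ x} := by
        ext z
        simp only [Set.mem_preimage, Set.mem_singleton_iff]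
        have hpz : ∀ z : P, p z = g (h₀ z) := fun z => by rw [← Scheme.Hom.comp_apply, hg]
        rw [hpz z, hpz x]
        exact ⟨fun h => hinj h, fun h => by rw [h]⟩
      rw [h1]
      exact h₀.isConnected_preimage_singleton _
  have hjiso : IsIso j := by
    have : Surjective j := ⟨hjs⟩
    exact (isIso_iff_isOpenImmersion_and_surjective j).2 ⟨hjo, this⟩
  rw [← hjp]
  infer_instance

end K811.ProperD
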