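import Mathlib.RingTheory.PowerSeries.Basic
import Mathlib.RingTheory.PowerSeries.NoZeroDivisors
import Mathlib.RingTheory.PowerSeries.Inverse
import Mathlib.RingTheory.DiscreteValuationRing.Basic
import Mathlib.LinearAlgebra.Matrix.Determinant.Basic
import Mathlib.LinearAlgebra.Matrix.NonsingularInverse
import Mathlib.LinearAlgebra.Matrix.ToLin
import Mathlib.LinearAlgebra.Matrix.Block

/-!
# Hermite normal form over the power series ring of a field
-/

set_option autoImplicit false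
universe u

open PowerSeries Matrix

namespace K811.Herm

variable {k : Type u} [Field k] {r : ℕ}

/-- the tail of a power series: `f = (terms of degree < n) + tail n f * X ^ n`. -/
noncomputable def tail (n : ℕ) (f : k⟦X⟧) : k⟦X⟧ := PowerSeries.mk fun m => coeff (m + n) f

theorem coeff_sub_tail (n m : ℕ) (f : k⟦X⟧) :
    coeff m (f - tail n f * X ^ n) = if n ≤ m then 0 else coeff m f := by
  rw [map_sub, coeff_mul_X_pow']
  split_ifs with h
  · rw [tail, coeff_mk, Nat.sub_add_cancel h, sub_self]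
  · rw [sub_zero]

/-- upper triangular with diagonal entries powers of the variable. -/
structure Tri (H : Matrix (Fin r) (Fin r) k⟦X⟧) (e : Fin r → ℕ) : Prop where
  diag : ∀ i, H i i = X ^ e i
  low : ∀ i j, j < i → H i j = 0

/-- the row lattice. -/
noncomputable def L (M : Matrix (Fin r) (Fin r) k⟦X⟧) : Submodule k⟦X⟧ (Fin r → k⟦X⟧) :=
  LinearMap.range (Matrix.vecMulLinear M)

theorem mem_L {M : Matrix (Fin r) (Fin r) k⟦X⟧} {v : Fin r → k⟦X⟧} :
    v ∈ L M ↔ ∃ w, w ᵥ* M = v := Iff.rfl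

theorem row_mem_L (M : Matrix (Fin r) (Fin r) k⟦X⟧) (i : Fin r) : M i ∈ L M :=
  ⟨Pi.single i 1, by rw [Matrix.vecMulLinear_apply, Matrix.single_one_vecMul]; rfl⟩

theorem L_mul_le (N M : Matrix (Fin r) (Fin r) k⟦X⟧) : L (N * M) ≤ L M := by
  rintro _ ⟨w, rfl⟩
  exact ⟨w ᵥ* N, by simp only [Matrix.vecMulLinear_apply, Matrix.vecMul_vecMul]⟩

theorem L_unit_mul {N : Matrix (Fin r) (Fin r) k⟦X⟧} (hN : IsUnit N)
    (M : Matrix (Fin r) (Fin r) k⟦X⟧) : L (N * M) = L M := by
  refine le_antisymm (L_mul_le N M) ?_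
  obtain ⟨u, rfl⟩ := hN
  have := L_mul_le (↑u⁻¹ : Matrix (Fin r) (Fin r) k⟦X⟧) ((u : Matrix (Fin r) (Fin r) k⟦X⟧) * M)
  rwa [← mul_assoc, Units.inv_mul, one_mul] at this

theorem det_smul_mem (M : Matrix (Fin r) (Fin r) k⟦X⟧) (v : Fin r → k⟦X⟧) : M.det • v ∈ L M := by
  refine ⟨v ᵥ* M.adjugate, ?_⟩
  rw [Matrix.vecMulLinear_apply, Matrix.vecMul_vecMul, Matrix.adjugate_mul, Matrix.vecMul_smul,
    Matrix.vecMul_one]

/-- The basic property of triangular matrices. -/
theorem Tri.dvd {H : Matrix (Fin r) (Fin r) k⟦X⟧} {e : Fin r → ℕ} (hH : Tri H e)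
    {v : Fin r → k⟦X⟧} (hv : v ∈ L H) (i : Fin r) (h0 : ∀ j, j < i → v j = 0) :
    (X : k⟦X⟧) ^ e i ∣ v i := by
  obtain ⟨w, rfl⟩ := hv
  rw [Matrix.vecMulLinear_apply] at h0 ⊢
  have key : ∀ l, (∀ j, j < l → w j = 0) → (w ᵥ* H) l = w l * X ^ e l := by
    intro l hl
    rw [Matrix.vecMul, dotProduct, Finset.sum_eq_single l]
    · rw [hH.diag]
    · intro j _ hj
      rcases lt_or_gt_of_ne hj with h | h
      · rw [hl j h, zero_mul]
      · rw [hH.low j l h, mul_zero]
    · simp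
  have hw : ∀ n : ℕ, ∀ l : Fin r, (l : ℕ) = n → l < i → w l = 0 := by
    intro n
    induction n using Nat.strong_induction_on with
    | _ n ih =>
      intro l hl hli
      have h1 := key l (fun j hj => ih j (by have := Fin.lt_def.1 hj; omega) j rfl (hj.trans hli))
      rw [h0 l hli] at h1
      rcases mul_eq_zero.1 h1.symm with h | h
      · exact h
      · exact absurd h (pow_ne_zero _ X_ne_zero)
  rw [key i (fun j hj => hw _ j rfl hj)]
  exact Dvd.intro_left _ rfl

theorem Tri.det {H : Matrix (Fin r) (Fin r) k⟦X⟧} {e : Fin r → ℕ} (hH : Tri H e) :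
    H.det ≠ 0 := by
  have : H.BlockTriangular id := fun i j hij => hH.low i j hij
  rw [Matrix.det_of_isUpperTriangular this, Finset.prod_ne_zero_iff]
  intro i _
  rw [hH.diag]
  exact pow_ne_zero _ X_ne_zero

/-- existence of the row vectors. -/
theorem exists_row (M : Matrix (Fin r) (Fin r) k⟦X⟧) (hM : M.det ≠ 0) (i : Fin r) :
    ∃ (e : ℕ) (h : Fin r → k⟦X⟧), h ∈ L M ∧ (∀ j, j < i → h j = 0) ∧ h i = X ^ e ∧
      ∀ v ∈ L M, (∀ j, j < i → v j = 0) → (X : k⟦X⟧) ^ e ∣ v i := by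
  let K : Submodule k⟦X⟧ (Fin r → k⟦X⟧) :=
    L M ⊓ ⨅ j : {j : Fin r // j < i}, LinearMap.ker (LinearMap.proj (R := k⟦X⟧) (φ := fun _ => k⟦X⟧) j.1)
  have hK : ∀ v, v ∈ K ↔ v ∈ L M ∧ ∀ j, j < i → v j = 0 := by
    intro v
    simp [K, Submodule.mem_iInf]
  let I : Ideal k⟦X⟧ := K.map (LinearMap.proj i)
  have hI : I ≠ ⊥ := by
    intro h
    have h1 : M.det • (Pi.single i 1 : Fin r → k⟦X⟧) ∈ K := by
      rw [hK]
      refine ⟨det_smul_mem M _, fun j hj => ?_⟩
      rw [Pi.smul_apply, Pi.single_apply, if_neg hj.ne, smul_zero]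
    have h2 : M.det ∈ I := ⟨_, h1, by simp⟩
    rw [h] at h2
    exact hM h2
  obtain ⟨e, he⟩ := IsDiscreteValuationRing.ideal_eq_span_pow_irreducible hI X_irreducible
  have h1 : (X : k⟦X⟧) ^ e ∈ I := by rw [he]; exact Ideal.mem_span_singleton_self _
  obtain ⟨h, hh, hhi⟩ := h1
  have hh' := (hK h).1 hh
  refine ⟨e, h, hh'.1, hh'.2, hhi, fun v hv hv0 => ?_⟩
  have : v i ∈ I := ⟨v, (hK v).2 ⟨hv, hv0⟩, rfl⟩
  rw [he, Ideal.mem_span_singleton] at this
  exact this

/-- reduction of a vector modulo triangular rows. -/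
theorem exists_reduce {H : Matrix (Fin r) (Fin r) k⟦X⟧} {e : Fin r → ℕ} (hH : Tri H e)
    (i : Fin r) (v : Fin r → k⟦X⟧) (m : ℕ) :
    ∃ v' : Fin r → k⟦X⟧, v - v' ∈ L H ∧ (∀ j, j ≤ i → v' j = v j) ∧
      ∀ j : Fin r, i < j → (j : ℕ) < m → ∀ n, e j ≤ n → coeff n (v' j) = 0 := by
  induction m with
  | zero => exact ⟨v, by rw [sub_self]; exact zero_mem _, fun _ _ => rfl, fun j _ h => absurd h (by omega)⟩
  | succ m ih =>
    obtain ⟨v', h1, h2, h3⟩ := ih
    by_cases hm : m < r ∧ (i : ℕ) < m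
    · obtain ⟨hm, him⟩ := hm
      let a := tail (e ⟨m, hm⟩) (v' ⟨m, hm⟩)
      refine ⟨v' - a • H ⟨m, hm⟩, ?_, ?_, ?_⟩
      · have : v - (v' - a • H ⟨m, hm⟩) = (v - v') + a • H ⟨m, hm⟩ := by abel
        rw [this]
        exact add_mem h1 (Submodule.smul_mem _ _ (row_mem_L H _))
      · intro j hj
        rw [Pi.sub_apply, Pi.smul_apply, hH.low ⟨m, hm⟩ j (by rw [Fin.lt_def]; rw [Fin.le_def] at hj; simp only; omega), smul_zero, sub_zero, h2 j hj]
      · intro j hij hj n hn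
        rw [Pi.sub_apply, Pi.smul_apply, smul_eq_mul]
        rcases Nat.lt_succ_iff_lt_or_eq.1 hj with h | h
        · rw [hH.low ⟨m, hm⟩ j (by rw [Fin.lt_def]; exact h), mul_zero, sub_zero]
          exact h3 j hij h n hn
        · have : j = ⟨m, hm⟩ := Fin.ext h
          subst this
          rw [hH.diag, coeff_sub_tail, if_pos hn]
    · refine ⟨v', h1, h2, fun j hij hj n hn => ?_⟩
      rcases Nat.lt_succ_iff_lt_or_eq.1 hj with h | h
      · exact h3 j hij h n hn
      · exfalso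
        apply hm
        rw [← h]
        exact ⟨j.2, hij⟩

/-- row-reduced. -/
def Reduced (H : Matrix (Fin r) (Fin r) k⟦X⟧) (e : Fin r → ℕ) : Prop :=
  ∀ i j, i < j → ∀ n, e j ≤ n → coeff n (H i j) = 0

/-- matrices with the same lattice. -/
theorem exists_unit {H M : Matrix (Fin r) (Fin r) k⟦X⟧} (hH : H.det ≠ 0) (h : L H = L M) :
    ∃ N : Matrix (Fin r) (Fin r) k⟦X⟧, IsUnit N ∧ N * M = H := by
  have h1 : ∀ i, ∃ w, w ᵥ* M = H i := fun i => mem_L.1 (h ▸ row_mem_L H i)
  have h2 : ∀ i, ∃ w, w ᵥ* H = M i := fun i => mem_L.1 (h.symm ▸ row_mem_L M i)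
  choose N hN using h1
  choose N' hN' using h2
  have e1 : Matrix.of N * M = H := by
    ext i j : 1
    rw [Matrix.mul_apply_eq_vecMul]
    exact congrFun (hN i) j
  have e2 : Matrix.of N' * H = M := by
    ext i j : 1
    rw [Matrix.mul_apply_eq_vecMul]
    exact congrFun (hN' i) j
  refine ⟨Matrix.of N, ?_, e1⟩
  have e3 : (Matrix.of N).det * (Matrix.of N').det * H.det = 1 * H.det := by
    rw [mul_assoc, ← Matrix.det_mul, e2, ← Matrix.det_mul, e1, one_mul]
  rw [Matrix.isUnit_iff_isUnit_det]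
  exact IsUnit.of_mul_eq_one _ (mul_right_cancel₀ hH e3)

theorem exists_reduced (M : Matrix (Fin r) (Fin r) k⟦X⟧) (hM : M.det ≠ 0) :
    ∃ (H : Matrix (Fin r) (Fin r) k⟦X⟧) (e : Fin r → ℕ), Tri H e ∧ Reduced H e ∧ L H = L M := by
  choose e h hL h0 hdiag hdvd using exists_row M hM
  have hT : Tri (Matrix.of h) e := ⟨fun i => hdiag i, fun i j hij => h0 i j hij⟩
  have hLe : ∀ g : Fin r → Fin r → k⟦X⟧, (∀ i, g i ∈ L M) → L (Matrix.of g) ≤ L M := by
    intro g hg
    rintro _ ⟨w, rfl⟩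
    rw [Matrix.vecMulLinear_apply, Matrix.vecMul_eq_sum]
    exact Submodule.sum_mem _ fun i _ => Submodule.smul_mem _ _ (hg i)
  have hge : ∀ g : Fin r → Fin r → k⟦X⟧, Tri (Matrix.of g) e → L M ≤ L (Matrix.of g) ∨ ¬ (∀ i, g i ∈ L M) := by
    intro g hg
    by_cases hgL : ∀ i, g i ∈ L M
    swap
    · exact Or.inr hgL
    left
    have : ∀ m : ℕ, m ≤ r → ∀ v ∈ L M, (∀ j : Fin r, (j : ℕ) + m < r → v j = 0) → v ∈ L (Matrix.of g) := by
      intro m
      induction m with
      | zero =>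
        intro _ v hv hv0
        have : v = 0 := by
          ext1 j
          exact hv0 j (by omega)
        rw [this]
        exact zero_mem _
      | succ m ih =>
        intro hm v hv hv0
        let i : Fin r := ⟨r - (m + 1), by omega⟩
        obtain ⟨c, hc⟩ := hdvd i v hv (fun j hj => hv0 j (by
          rw [Fin.lt_def] at hj
          simp only [i] at hj
          omega))
        have h2 : v - c • g i ∈ L (Matrix.of g) := by
          refine ih (by omega) _ (sub_mem hv (Submodule.smul_mem _ _ (hgL i))) fun j hj => ?_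
          rw [Pi.sub_apply, Pi.smul_apply]
          rcases lt_or_eq_of_le (show j ≤ i by rw [Fin.le_def]; simp only [i]; omega) with h | h
          · have := hg.low i j h
            rw [Matrix.of_apply] at this
            rw [this, smul_zero, sub_zero]
            exact hv0 j (by
              rw [Fin.lt_def] at h
              simp only [i] at h
              omega)
          · subst h
            have := hg.diag i
            rw [Matrix.of_apply] at this
            change v i - c • g i i = 0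
            rw [this, hc, smul_eq_mul, mul_comm, sub_self]
        have : v = (v - c • g i) + c • g i := by abel
        rw [this]
        exact add_mem h2 (Submodule.smul_mem _ _ (row_mem_L (Matrix.of g) i))
    intro v hv
    exact this r le_rfl v hv (fun j hj => absurd hj (by omega))
  have hhM : L (Matrix.of h) ≤ L M := hLe h hL
  choose h' hd hsame hred using fun i => exists_reduce hT i (h i) r
  have hT' : Tri (Matrix.of h') e := by
    refine ⟨fun i => ?_, fun i j hij => ?_⟩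
    · rw [Matrix.of_apply, hsame i i le_rfl, hdiag]
    · rw [Matrix.of_apply, hsame i j hij.le, h0 i j hij]
  have hL' : ∀ i, h' i ∈ L M := by
    intro i
    have : h' i = h i - (h i - h' i) := by abel
    rw [this]
    exact sub_mem (hL i) (hhM (hd i))
  refine ⟨Matrix.of h', e, hT', fun i j hij n hn => hred i j hij j.2 n hn, ?_⟩
  refine le_antisymm (hLe h' hL') ?_
  rcases hge h' hT' with h | h
  · exact h
  · exact absurd hL' h

theorem Tri.exponent_unique {H₁ H₂ : Matrix (Fin r) (Fin r) k⟦X⟧} {e₁ e₂ : Fin r → ℕ}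
    (h₁ : Tri H₁ e₁) (h₂ : Tri H₂ e₂) (h : L H₁ = L H₂) : e₁ = e₂ := by
  have key : ∀ {H₁ H₂ : Matrix (Fin r) (Fin r) k⟦X⟧} {e₁ e₂ : Fin r → ℕ}
    (_ : Tri H₁ e₁) (_ : Tri H₂ e₂) (_ : L H₁ = L H₂) (i : Fin r), e₁ i ≤ e₂ i := by
    intro H₁ H₂ e₁ e₂ h₁ h₂ h i
    have := h₁.dvd (h.symm ▸ row_mem_L H₂ i) i (fun j hj => h₂.low i j hj)
    rw [h₂.diag] at this
    exact (pow_dvd_pow_iff X_ne_zero X_irreducible.not_isUnit).1 this
  ext i
  exact le_antisymm (key h₁ h₂ h i) (key h₂ h₁ h.symm i)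

theorem Reduced.unique {H₁ H₂ : Matrix (Fin r) (Fin r) k⟦X⟧} {e₁ e₂ : Fin r → ℕ}
    (h₁ : Tri H₁ e₁) (h₂ : Tri H₂ e₂) (r₁ : Reduced H₁ e₁) (r₂ : Reduced H₂ e₂)
    (h : L H₁ = L H₂) : H₁ = H₂ := by
  have he := h₁.exponent_unique h₂ h
  subst he
  refine Matrix.ext fun i => ?_
  have hd : H₁ i - H₂ i ∈ L H₁ := sub_mem (row_mem_L H₁ i) (h.symm ▸ row_mem_L H₂ i)
  have : ∀ m : ℕ, ∀ j : Fin r, (j : ℕ) = m → (H₁ i - H₂ i) j = 0 := by
    intro m
    induction m using Nat.strong_induction_on with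
    | _ m ih =>
      intro j hj
      rcases lt_trichotomy j i with hji | hji | hji
      · rw [Pi.sub_apply, h₁.low i j hji, h₂.low i j hji, sub_zero]
      · subst hji
        rw [Pi.sub_apply, h₁.diag, h₂.diag, sub_self]
      · have h3 := h₁.dvd hd j (fun l hl => ih l (by rw [Fin.lt_def] at hl; omega) l rfl)
        rw [X_pow_dvd_iff] at h3
        ext n
        rw [map_zero]
        by_cases hn : n < e₁ j
        · exact h3 n hn
        · rw [Pi.sub_apply, map_sub, r₁ i j hji n (by omega), r₂ i j hji n (by omega), sub_zero]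
  intro j
  exact sub_eq_zero.1 (this j j rfl)

theorem existsUnique_reduced (M : Matrix (Fin r) (Fin r) (PowerSeries k)) (hM : M.det ≠ 0) :
    ∃! H : Matrix (Fin r) (Fin r) (PowerSeries k),
      (∃ e : Fin r → ℕ, (∀ i, H i i = PowerSeries.X ^ e i) ∧ (∀ i j, j < i → H i j = 0) ∧
        (∀ i j, i < j → ∀ n, e j ≤ n → PowerSeries.coeff n (H i j) = 0)) ∧
      ∃ N : Matrix (Fin r) (Fin r) (PowerSeries k), IsUnit N ∧ N * M = H := by
  obtain ⟨H, e, hT, hR, hL⟩ := exists_reduced M hM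
  refine ⟨H, ⟨⟨e, hT.diag, hT.low, hR⟩, exists_unit hT.det hL⟩, ?_⟩
  rintro H' ⟨⟨e', h1, h2, h3⟩, N, hN, rfl⟩
  exact Reduced.unique ⟨h1, h2⟩ hT h3 hR ((L_unit_mul hN M).trans hL.symm)

end K811.Herm
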