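import Mathlib.RingTheory.PowerSeries.WellKnown
import Mathlib.Algebra.Polynomial.Coeff
import Mathlib.Algebra.Ring.GeomSum
import Mathlib.Algebra.BigOperators.Fin
import Mathlib.Data.Fintype.BigOperators
import Mathlib.Algebra.Ring.Parity

/-!
# Counting monomials with bounded exponents
-/

set_option autoImplicit false

open Finset

namespace K811.Count

open PowerSeries in
/-- The generating function `X + … + X^{p-1}`. -/
noncomputable def G (S : Type*) [CommSemiring S] (p : ℕ) : PowerSeries S :=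
  ∑ j ∈ Finset.univ.filter (fun j : Fin p => 1 ≤ (j : ℕ)), X ^ (j : ℕ)

/-- The count. -/
def N (p n s : ℕ) : ℕ :=
  Fintype.card {e : Fin n → Fin p // (∀ i, 1 ≤ (e i : ℕ)) ∧ ∑ i, (e i : ℕ) = s}

theorem coeff_G_pow (S : Type*) [CommSemiring S] (p n s : ℕ) :
    PowerSeries.coeff s (G S p ^ n) = (N p n s : S) := by
  have h1 : G S p ^ n = ∏ _i : Fin n, G S p := by simp
  rw [h1]
  unfold G
  rw [Finset.prod_univ_sum]
  simp only [Finset.prod_pow_eq_pow_sum, map_sum, PowerSeries.coeff_X_pow]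
  rw [Finset.sum_boole, N, Fintype.card_subtype]
  congr 2
  ext e
  simp [Fintype.mem_piFinset, eq_comm]

theorem G_eq (S : Type*) [CommSemiring S] (p : ℕ) :
    G S p = PowerSeries.X * ∑ j ∈ range (p - 1), PowerSeries.X ^ j := by
  unfold G
  rcases p with _ | m
  · simp
  · rw [Finset.sum_filter, Fin.sum_univ_succ]
    simp only [Fin.val_zero, Fin.val_succ, Nat.add_sub_cancel]
    rw [if_neg (by omega), zero_add, Finset.mul_sum, ← Fin.sum_univ_eq_sum_range
      (fun j => (PowerSeries.X * PowerSeries.X ^ j : PowerSeries S))]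
    refine Finset.sum_congr rfl fun j _ => ?_
    rw [if_pos (by omega), pow_succ']

theorem one_sub_mul_G (p : ℕ) :
    (1 - PowerSeries.X) * G ℤ p = PowerSeries.X * (1 - PowerSeries.X ^ (p - 1)) := by
  rw [G_eq, mul_left_comm, mul_neg_geom_sum]

theorem G_pow_eq (p n : ℕ) : G ℤ p ^ n =
    PowerSeries.X ^ n * (1 - PowerSeries.X ^ (p - 1)) ^ n * (PowerSeries.invOneSubPow ℤ n).val := by
  have h1 := congrArg (· ^ n) (one_sub_mul_G p)
  simp only [mul_pow] at h1
  rw [← h1]
  have h2 : (1 - PowerSeries.X : PowerSeries ℤ) ^ n * (PowerSeries.invOneSubPow ℤ n).val = 1 := by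
    have := (PowerSeries.invOneSubPow ℤ n).inv_val
    rwa [PowerSeries.invOneSubPow_inv_eq_one_sub_pow] at this
  rw [mul_assoc, mul_comm (G ℤ p ^ n), ← mul_assoc, h2, one_mul]

theorem card_eq (p n s : ℕ) (hn : 1 ≤ n) :
    (N p n s : ℤ) =
      ∑ i ∈ Finset.range (n + 1),
        (-1 : ℤ) ^ i * (n.choose i : ℤ) *
          (if i * (p - 1) + n ≤ s then (((s - i * (p - 1) - 1).choose (n - 1) : ℕ) : ℤ) else 0) := by
  rw [← coeff_G_pow ℤ, G_pow_eq]
  have h1 : (1 - PowerSeries.X ^ (p - 1) : PowerSeries ℤ) ^ n =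
      ∑ i ∈ Finset.range (n + 1), PowerSeries.C ((-1 : ℤ) ^ i * (n.choose i : ℤ)) *
        PowerSeries.X ^ (i * (p - 1)) := by
    rw [sub_eq_neg_add, add_pow]
    refine Finset.sum_congr rfl fun i _ => ?_
    rw [neg_pow, ← pow_mul, one_pow, mul_one, mul_comm (p - 1) i]
    simp only [map_mul, map_pow, map_neg, map_one, map_natCast]
    ring
  rw [h1, Finset.mul_sum, Finset.sum_mul, map_sum]
  refine Finset.sum_congr rfl fun i _ => ?_
  have h2 : PowerSeries.X ^ n * (PowerSeries.C ((-1 : ℤ) ^ i * (n.choose i : ℤ)) *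
        PowerSeries.X ^ (i * (p - 1))) * (PowerSeries.invOneSubPow ℤ n).val =
      PowerSeries.C ((-1 : ℤ) ^ i * (n.choose i : ℤ)) *
        (PowerSeries.X ^ (i * (p - 1) + n) * (PowerSeries.invOneSubPow ℤ n).val) := by
    rw [pow_add]; ring
  rw [h2, PowerSeries.coeff_C_mul, PowerSeries.coeff_X_pow_mul']
  congr 1
  split_ifs with h
  · rw [PowerSeries.invOneSubPow_val_eq_mk_sub_one_add_choose_of_pos ℤ n hn, PowerSeries.coeff_mk]
    congr 2
    omega
  · rfl

/-- two-variable generating function -/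
noncomputable def F (p : ℕ) : Polynomial (PowerSeries ℕ) :=
  ∑ j ∈ Finset.univ.filter (fun j : Fin p => 1 ≤ (j : ℕ)), Polynomial.C (PowerSeries.X ^ (j : ℕ)) *
    Polynomial.X ^ (if 2 * (j : ℕ) < p then 1 else 0)

theorem coeff_F_pow (p n s D : ℕ) :
    PowerSeries.coeff s ((F p ^ n).coeff D) =
      Fintype.card {e : Fin n → Fin p // (∀ i, 1 ≤ (e i : ℕ)) ∧ ∑ i, (e i : ℕ) = s ∧
        (Finset.univ.filter fun i => 2 * (e i : ℕ) < p).card = D} := by
  have h1 : F p ^ n = ∏ _i : Fin n, F p := by simp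
  rw [h1]
  unfold F
  rw [Finset.prod_univ_sum]
  simp only [Finset.prod_mul_distrib, Finset.prod_pow_eq_pow_sum, ← map_prod,
    Polynomial.finsetSum_coeff, Polynomial.coeff_C_mul, Polynomial.coeff_X_pow, map_sum,
    Finset.sum_boole]
  simp only [mul_ite, mul_one, mul_zero, apply_ite (PowerSeries.coeff s), PowerSeries.coeff_X_pow,
    map_zero, ← ite_and]
  rw [Finset.sum_boole, Fintype.card_subtype]
  simp only [Nat.cast_id]
  congr 1
  ext e
  simp only [Finset.mem_filter, Fintype.mem_piFinset, Finset.mem_univ, true_and]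
  constructor
  · rintro ⟨h1, h2, h3⟩
    exact ⟨h1, h3.symm, h2.symm⟩
  · rintro ⟨h1, h2, h3⟩
    exact ⟨h1, h3.symm, h2.symm⟩

theorem F_eq_range (p : ℕ) : F p = ∑ j ∈ range (p - 1), Polynomial.C (PowerSeries.X ^ (j + 1)) *
    Polynomial.X ^ (if 2 * (j + 1) < p then 1 else 0) := by
  unfold F
  rcases p with _ | m
  · simp
  · rw [Finset.sum_filter, Fin.sum_univ_succ]
    simp only [Fin.val_zero, Fin.val_succ, Nat.add_sub_cancel]
    rw [if_neg (by omega), zero_add, ← Fin.sum_univ_eq_sum_range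
      (fun j => (Polynomial.C (PowerSeries.X ^ (j + 1)) *
        Polynomial.X ^ (if 2 * (j + 1) < m + 1 then 1 else 0) : Polynomial (PowerSeries ℕ)))]
    refine Finset.sum_congr rfl fun j _ => ?_
    rw [if_pos (by omega)]

theorem F_eq (h : ℕ) : F (2 * h + 1) =
    Polynomial.X * Polynomial.C (G ℕ (h + 1)) +
      Polynomial.C (PowerSeries.X ^ h * G ℕ (h + 1)) := by
  rw [F_eq_range, G_eq, show 2 * h + 1 - 1 = h + h by omega, Finset.sum_range_add,
    Nat.add_sub_cancel]
  congr 1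
  · rw [Finset.mul_sum, map_sum, Finset.mul_sum]
    refine Finset.sum_congr rfl fun j hj => ?_
    rw [Finset.mem_range] at hj
    rw [if_pos (by omega), pow_succ', pow_one, mul_comm]
  · rw [Finset.mul_sum, Finset.mul_sum, map_sum]
    refine Finset.sum_congr rfl fun j hj => ?_
    rw [if_neg (by omega), pow_zero, mul_one]
    congr 1
    ring

theorem N_zero (p n : ℕ) (hn : 0 < n) : N p n 0 = 0 := by
  rw [N, Fintype.card_eq_zero_iff]
  refine ⟨fun ⟨e, h1, h2⟩ => ?_⟩
  have := h1 ⟨0, hn⟩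
  rw [Finset.sum_eq_zero_iff] at h2
  have := h2 ⟨0, hn⟩ (Finset.mem_univ _)
  omega

theorem card_D_eq (p n s D : ℕ) (hp : Odd p) :
    Fintype.card {e : Fin n → Fin p // (∀ i, 1 ≤ (e i : ℕ)) ∧ ∑ i, (e i : ℕ) = s ∧
        (Finset.univ.filter fun i => 2 * (e i : ℕ) < p).card = D} =
      n.choose D * ∑ j ∈ Finset.range (s + 1),
        N ((p + 1) / 2) D j * N ((p + 1) / 2) (n - D) (s - j - (n - D) * ((p - 1) / 2)) := by
  rw [← coeff_F_pow]
  obtain ⟨h, rfl⟩ := hp
  rw [show (2 * h + 1 + 1) / 2 = h + 1 by omega, show (2 * h + 1 - 1) / 2 = h by omega]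
  rw [F_eq, add_pow]
  simp only [mul_pow, ← map_pow, Polynomial.finsetSum_coeff]
  have h1 : ∀ m ∈ range (n + 1), (Polynomial.X ^ m * Polynomial.C (G ℕ (h + 1) ^ m) *
      Polynomial.C ((PowerSeries.X ^ h * G ℕ (h + 1)) ^ (n - m)) *
        ((n.choose m : ℕ) : Polynomial (PowerSeries ℕ))).coeff D =
      if m = D then (n.choose D : PowerSeries ℕ) * (G ℕ (h + 1) ^ D *
        (PowerSeries.X ^ h * G ℕ (h + 1)) ^ (n - D)) else 0 := by
    intro m _
    have : Polynomial.X ^ m * Polynomial.C (G ℕ (h + 1) ^ m) *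
      Polynomial.C ((PowerSeries.X ^ h * G ℕ (h + 1)) ^ (n - m)) *
        ((n.choose m : ℕ) : Polynomial (PowerSeries ℕ)) =
        Polynomial.C ((n.choose m : PowerSeries ℕ) * (G ℕ (h + 1) ^ m *
        (PowerSeries.X ^ h * G ℕ (h + 1)) ^ (n - m))) * Polynomial.X ^ m := by
      simp only [map_mul, map_natCast]
      ring
    rw [this, Polynomial.coeff_C_mul, Polynomial.coeff_X_pow]
    by_cases hm : m = D
    · subst hm; simp
    · rw [if_neg hm, if_neg (Ne.symm hm), mul_zero]
  simp only [mul_pow, ← map_pow] at h1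
  rw [Finset.sum_congr rfl h1, Finset.sum_ite_eq']
  by_cases hD : D ∈ range (n + 1)
  · rw [if_pos hD]
    have hc : ((n.choose D : ℕ) : PowerSeries ℕ) = PowerSeries.C (n.choose D : ℕ) := by simp
    rw [hc, PowerSeries.coeff_C_mul]
    congr 1
    rw [PowerSeries.coeff_mul, Finset.Nat.sum_antidiagonal_eq_sum_range_succ_mk]
    refine Finset.sum_congr rfl fun j hj => ?_
    rw [Finset.mem_range] at hj hD
    simp only
    rw [coeff_G_pow, Nat.cast_id, ← pow_mul, PowerSeries.coeff_X_pow_mul', coeff_G_pow, Nat.cast_id,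
      mul_comm h (n - D)]
    congr 1
    split_ifs with hle
    · rfl
    · have h2 : s - j - (n - D) * h = 0 := by omega
      rw [h2, N_zero]
      rcases Nat.eq_zero_or_pos (n - D) with h0 | h0
      · rw [h0] at hle; omega
      · exact h0
  · rw [if_neg hD]
    rw [Finset.mem_range, not_lt] at hD
    rw [Nat.choose_eq_zero_of_lt (by omega), zero_mul, map_zero]

end K811.Count
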