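import Groth.Agent.CycA.IntLocal
import Groth.Agent.CycB.FiniteFlat
import Groth.Agent.Sga4h.GeoDim2
import Groth.Agent.S2080
import Groth.Agent.S0414

/-!
# Generically finite dominant morphisms of varieties of the same dimension
-/

set_option autoImplicit false
universe u

open CategoryTheory CategoryTheory.Limits AlgebraicGeometry
open Groth.Agent.CycB.RelDim Groth.Agent.CycB.FiniteFlat Groth.Agent.CycB.FiberStalk
  Groth.Agent.CycB.Push

namespace K811.GenFin

/-- The rank of a finite scheme over a field. -/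
theorem finrank_field (K : Type u) [Field K] {F : Scheme.{u}}
    (h : F ⟶ Spec (CommRingCat.of K)) [IsFinite h] (x : Spec (CommRingCat.of K)) :
    (letI := ((Scheme.ΓSpecIso (CommRingCat.of K)).inv ≫ h.appTop).hom.toAlgebra;
      Module.finrank K ↑(Γ(F, ⊤))) = h.finrank x := by
  have hF : IsAffine F := isAffine_of_isAffineHom h
  let φ : CommRingCat.of K ⟶ Γ(F, ⊤) := (Scheme.ΓSpecIso (CommRingCat.of K)).inv ≫ h.appTop
  have hg : h = F.isoSpec.hom ≫ Spec.map φ := by
    change h = F.toSpecΓ ≫ Spec.map φ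
    simp only [φ, Spec.map_comp]
    rw [← Scheme.toSpecΓ_naturality_assoc, toSpecΓ_SpecMap_ΓSpecIso_inv, Category.comp_id]
  have hfin : IsFinite (Spec.map φ) := by
    have : Spec.map φ = F.isoSpec.inv ≫ h := by rw [hg, Iso.inv_hom_id_assoc]
    rw [this]
    infer_instance
  have hfin' : φ.hom.Finite := (IsFinite.SpecMap_iff _).mp hfin
  have hfl : φ.hom.Flat := by
    algebraize [φ.hom]
    exact (inferInstance : Module.Flat K Γ(F, ⊤))
  have hfl' : Flat (Spec.map φ) := Flat.SpecMap_iff.2 hfl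
  letI : Algebra K ↑(Γ(F, ⊤)) := φ.hom.toAlgebra
  change Module.finrank K ↑(Γ(F, ⊤)) = h.finrank x
  have h1 : φ.hom.finrank x = Module.finrank K ↑(Γ(F, ⊤)) := by
    change Module.rankAtStalk (R := K) ↑(Γ(F, ⊤)) x = _
    rw [Module.rankAtStalk_eq_finrank_of_free]
    rfl
  rw [← h1, ← Scheme.Hom.finrank_SpecMap_eq_finrank hfin' hfl]
  conv_rhs => rw [hg]
  rw [Scheme.Hom.finrank_comp_left_of_isIso]

theorem rtd_generic (k : Type u) [Field k] {X : Scheme.{u}} (a : X ⟶ Spec (CommRingCat.of k))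
    [LocallyOfFiniteType a] [IsIntegral X] :
    ∃ n : ℕ, rtd a (genericPoint X) = n ∧ topologicalKrullDim X = n := by
  let _ : X.Over (Spec (CommRingCat.of k)) := ⟨a⟩
  have : LocallyOfFiniteType (X ↘ Spec (CommRingCat.of k)) := ‹LocallyOfFiniteType a›
  exact ⟨_, Groth.Agent.CycA.IntLocal.rtd_eq_trdeg a _,
    Groth.Agent.VarietyB.DimSch.topologicalKrullDim_eq_trd (X := X) k⟩

theorem rtd_eq (k : Type u) [Field k] {X Y : Scheme.{u}} (a : X ⟶ Spec (CommRingCat.of k))
    (b : Y ⟶ Spec (CommRingCat.of k)) [LocallyOfFiniteType a] [LocallyOfFiniteType b]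
    [IsIntegral X] [IsIntegral Y] (hdim : topologicalKrullDim ↥X = topologicalKrullDim ↥Y) :
    rtd a (genericPoint X) = rtd b (genericPoint Y) := by
  obtain ⟨n, hn, hn'⟩ := rtd_generic k a
  obtain ⟨m, hm, hm'⟩ := rtd_generic k b
  rw [hn', hm'] at hdim
  have : n = m := by exact_mod_cast hdim
  rw [hn, hm, this]

theorem eq_generic (k : Type u) [Field k] {X Y : Scheme.{u}} (a : X ⟶ Spec (CommRingCat.of k))
    (b : Y ⟶ Spec (CommRingCat.of k)) [LocallyOfFiniteType a] [LocallyOfFiniteType b]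
    [IsIntegral X] [IsIntegral Y] (hdim : topologicalKrullDim ↥X = topologicalKrullDim ↥Y)
    (f : X ⟶ Y) (hf : f ≫ b = a) (x : X) (hx : f x = genericPoint Y) : x = genericPoint X := by
  by_contra hne
  have h1 := rtd_comp f b x
  rw [hf, hx, ← rtd_eq k a b hdim] at h1
  have h2 := rtd_lt_of_specializes a (genericPoint_specializes x)
    (Ne.symm hne) (Subsingleton.elim (α := ↥(Spec (CommRingCat.of k))) _ _)
  rw [h1] at h2
  exact absurd h2 (not_lt.2 le_self_add)

theorem map_genericPoint {X Y : Scheme.{u}} [IsIntegral X] [IsIntegral Y] (f : X ⟶ Y)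
    [IsDominant f] : f (genericPoint X) = genericPoint Y := by
  refine (((genericPoint_spec X).image f.continuous).eq ?_)
  have : closure (Set.range f) = Set.univ := f.denseRange.closure_range
  rw [Set.image_univ, this]
  exact genericPoint_spec Y

theorem restrict_mono (P : MorphismProperty Scheme.{u}) [IsZariskiLocalAtTarget P]
    {X Y : Scheme.{u}} (f : X ⟶ Y) {U V : Y.Opens} (e : U ≤ V) (h : P (f ∣_ V)) : P (f ∣_ U) := by
  have h1 : P (f ∣_ V ∣_ (V.ι ⁻¹ᵁ U)) := IsZariskiLocalAtTarget.restrict h _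
  have h2 := (P.arrow_mk_iso_iff (morphismRestrictRestrict f V (V.ι ⁻¹ᵁ U))).mp h1
  have h3 : V.ι ''ᵁ V.ι ⁻¹ᵁ U = U := by
    rw [Scheme.Hom.image_preimage_eq_opensRange_inf, Scheme.Opens.opensRange_ι]
    exact inf_eq_right.mpr e
  rwa [h3] at h2

theorem exists_finite_flat (k : Type u) [Field k] {X Y : Scheme.{u}}
    (a : X ⟶ Spec (CommRingCat.of k))
    (b : Y ⟶ Spec (CommRingCat.of k)) [LocallyOfFiniteType a] [LocallyOfFiniteType b]
    [QuasiCompact a] [QuasiCompact b]
    [IsIntegral X] [IsIntegral Y] (hdim : topologicalKrullDim ↥X = topologicalKrullDim ↥Y)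
    (f : X ⟶ Y) (hf : f ≫ b = a) : ∃ W : Y.Opens, genericPoint Y ∈ W ∧
      IsFinite (f ∣_ W) ∧ Flat (f ∣_ W) ∧ LocallyOfFinitePresentation (f ∣_ W) := by
  have h1 : LocallyOfFiniteType f := by
    have : LocallyOfFiniteType (f ≫ b) := by rw [hf]; infer_instance
    exact locallyOfFiniteType_of_comp f b
  have hln : IsLocallyNoetherian X := LocallyOfFiniteType.isLocallyNoetherian a
  have hlnY : IsLocallyNoetherian Y := LocallyOfFiniteType.isLocallyNoetherian b
  have hcX : CompactSpace X := HasAffineProperty.iff_of_isAffine (P := @QuasiCompact).mp ‹QuasiCompact a›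
  have : IsNoetherian X := {}
  have hqc : QuasiCompact f := inferInstance
  have hqs : QuasiSeparated f := inferInstance
  have hη : closure {genericPoint Y} ∈ irreducibleComponents (Y : Type u) := by
    rw [genericPoint_closure, irreducibleComponents_eq_singleton]
    rfl
  have h2 : (f.base ⁻¹' {genericPoint Y}).Finite := by
    refine (Set.finite_singleton (genericPoint X)).subset ?_
    intro x hx
    exact eq_generic k a b hdim f hf x hx
  obtain ⟨V, -, hV, hfin⟩ := (Groth.Agent.S2080.result f _ hη).1 h2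
  obtain ⟨U, hU, hfl, hfp⟩ := Groth.Agent.S0414.result f
  have hUη : genericPoint Y ∈ U :=
    ((genericPoint_spec Y).mem_open_set_iff U.isOpen).mpr (by
      obtain ⟨y, hy⟩ := hU.nonempty
      exact ⟨y, trivial, hy⟩)
  refine ⟨U ⊓ V, ⟨hUη, hV⟩, ?_, ?_, ?_⟩
  · exact restrict_mono @IsFinite f inf_le_right hfin
  · exact restrict_mono @Flat f inf_le_left hfl
  · exact restrict_mono @LocallyOfFinitePresentation f inf_le_left hfp

/-- The fibre of `f` at a point over which `f` is finite and flat. -/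
theorem fibre_rank {X Y : Scheme.{u}} (f : X ⟶ Y) (W : Y.Opens) [IsFinite (f ∣_ W)]
    [Flat (f ∣_ W)] (y : Y) (hy : y ∈ W) :
    IsFinite (pullback.snd f (Y.fromSpecResidueField y)) ∧
    (letI := ((Scheme.ΓSpecIso (CommRingCat.of (Y.residueField y))).inv ≫
        (pullback.snd f (Y.fromSpecResidueField y)).appTop).hom.toAlgebra;
      Module.finrank (Y.residueField y) ↑(Γ(pullback f (Y.fromSpecResidueField y), ⊤))) =
      (f ∣_ W).finrank ⟨y, hy⟩ := by
  have hr : Set.range (Y.fromSpecResidueField y) ⊆ Set.range W.ι := by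
    rw [Scheme.range_fromSpecResidueField, Scheme.Opens.range_ι]
    exact Set.singleton_subset_iff.2 hy
  let j : Spec (Y.residueField y) ⟶ W := IsOpenImmersion.lift W.ι (Y.fromSpecResidueField y) hr
  have hj : j ≫ W.ι = Y.fromSpecResidueField y := IsOpenImmersion.lift_fac _ _ _
  have h1 : IsPullback (pullback.fst f (Y.fromSpecResidueField y))
      (pullback.snd f (Y.fromSpecResidueField y)) f (j ≫ W.ι) := by
    rw [hj]
    exact IsPullback.of_hasPullback _ _
  have h2 := IsPullback.of_right' h1 (isPullback_morphismRestrict f W).flip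
  have hfin : IsFinite (pullback.snd f (Y.fromSpecResidueField y)) :=
    MorphismProperty.of_isPullback (P := @IsFinite) h2 inferInstance
  refine ⟨hfin, ?_⟩
  have pt : Spec (Y.residueField y) := IsLocalRing.closedPoint (Y.residueField y)
  have h3 := Scheme.Hom.finrank_of_isPullback _ _ _ _ h2 pt
  have h4 : j pt = ⟨y, hy⟩ := by
    apply Subtype.ext
    have h5 : (j ≫ W.ι) pt = y := by rw [hj]; exact Scheme.fromSpecResidueField_apply _ _
    exact h5
  rw [h4] at h3
  rw [← h3]
  have : IsFinite (pullback.snd f (Y.fromSpecResidueField y)) := hfin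
  exact @finrank_field (IsLocalRing.ResidueField (Y.presheaf.stalk y)) _ _
    (pullback.snd f (Y.fromSpecResidueField y)) hfin pt

theorem residueDegree_generic {X Y : Scheme.{u}} [IsIntegral X] [IsIntegral Y] (f : X ⟶ Y)
    (hξ : f (genericPoint X) = genericPoint Y)
    (huniq : ∀ x : X, f x = genericPoint Y → x = genericPoint X)
    (W : Y.Opens) [IsFinite (f ∣_ W)]
    [Flat (f ∣_ W)] (hW : genericPoint Y ∈ W) :
    (f ∣_ W).finrank ⟨genericPoint Y, hW⟩ = f.residueDegree (genericPoint X) := by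
  have hξW : genericPoint X ∈ f ⁻¹ᵁ W := by
    change f (genericPoint X) ∈ W
    rw [hξ]; exact hW
  let ξ : (f ⁻¹ᵁ W : X.Opens).toScheme := ⟨genericPoint X, hξW⟩
  let η : W.toScheme := ⟨genericPoint Y, hW⟩
  have hset : {x : (f ⁻¹ᵁ W : X.Opens).toScheme | (f ∣_ W) x = η} = {ξ} := by
    ext x
    simp only [Set.mem_ofPred_eq, Set.mem_singleton_iff]
    constructor
    · intro hx
      apply Subtype.ext
      apply huniq
      have h2 : ((f ∣_ W) ≫ W.ι) x = genericPoint Y := congrArg W.ι hx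
      rw [morphismRestrict_ι] at h2
      exact h2
    · rintro rfl
      apply Subtype.ext
      have h2 : ((f ∣_ W) ≫ W.ι) ξ = genericPoint Y := by
        rw [morphismRestrict_ι]
        exact hξ
      exact h2
  have h1 := finsum_finite_flat (f ∣_ W) η
  rw [hset, finsum_mem_singleton] at h1
  rw [← h1]
  have hne : Nonempty (f ⁻¹ᵁ W : X.Opens) := ⟨ξ⟩
  have hfield : IsField ((f ⁻¹ᵁ W : X.Opens).toScheme.presheaf.stalk ξ) := by
    have h2 : (f ⁻¹ᵁ W).ι (genericPoint (f ⁻¹ᵁ W : X.Opens).toScheme) = genericPoint X :=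
      genericPoint_eq_of_isOpenImmersion _
    have h3 : ξ = genericPoint (f ⁻¹ᵁ W : X.Opens).toScheme :=
      (f ⁻¹ᵁ W).ι.isOpenEmbedding.injective h2.symm
    rw [h3]
    exact Field.toIsField (f ⁻¹ᵁ W : X.Opens).toScheme.functionField
  have hmax : (fibIdeal (f ∣_ W) ξ).IsMaximal := by
    have h4 : fibIdeal (f ∣_ W) ξ = ⊥ := by
      letI := hfield.toField
      exact (Ideal.eq_bot_or_top _).resolve_right (fibIdeal_ne_top _ _)
    rw [h4]
    letI := hfield.toField
    exact Ideal.bot_isMaximal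
  have hlen : Module.length ((f ⁻¹ᵁ W : X.Opens).toScheme.presheaf.stalk ξ)
      ((f ⁻¹ᵁ W : X.Opens).toScheme.presheaf.stalk ξ ⧸ fibIdeal (f ∣_ W) ξ) = 1 :=
    Module.length_eq_one_iff.2 (isSimpleModule_iff_isCoatom.2 hmax.out)
  rw [hlen]
  change 1 * _ = _
  rw [one_mul]
  have h5 := residueDegree_comp (f ∣_ W) W.ι ξ
  have h6 := residueDegree_comp (f ⁻¹ᵁ W).ι f ξ
  rw [residueDegree_of_surjectiveOnStalks W.ι, one_mul] at h5
  rw [residueDegree_of_surjectiveOnStalks (f ⁻¹ᵁ W).ι, mul_one] at h6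
  rw [← h5, morphismRestrict_ι]
  exact h6

/-- A dominant morphism of varieties of the same dimension has a finite extension of function
fields, and the rank of its fibres is generically the degree of the extension. -/
theorem main (k : Type u) [Field k] {X Y : Scheme.{u}}
    (a : X ⟶ Spec (CommRingCat.of k))
    (b : Y ⟶ Spec (CommRingCat.of k)) [LocallyOfFiniteType a] [LocallyOfFiniteType b]
    [QuasiCompact a] [QuasiCompact b]
    [IsIntegral X] [IsIntegral Y] (f : X ⟶ Y) [IsDominant f] (hf : f ≫ b = a)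
    (hdim : topologicalKrullDim ↥X = topologicalKrullDim ↥Y) :
    (f.residueFieldMap (genericPoint X)).hom.Finite ∧
    ∃ W : Y.Opens, Nonempty ↥W ∧ ∀ y : Y, y ∈ W →
      IsFinite (pullback.snd f (Y.fromSpecResidueField y)) ∧
      (letI := ((Scheme.ΓSpecIso (CommRingCat.of (Y.residueField y))).inv ≫
          (pullback.snd f (Y.fromSpecResidueField y)).appTop).hom.toAlgebra;
        Module.finrank (Y.residueField y) ↑(Γ(pullback f (Y.fromSpecResidueField y), ⊤))) =
        f.residueDegree (genericPoint X) := by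
  obtain ⟨W, hW, h1, h2, h3⟩ := exists_finite_flat k a b hdim f hf
  have hξ := map_genericPoint f
  refine ⟨?_, W, ⟨⟨_, hW⟩⟩, fun y hy => ?_⟩
  · have hξW : genericPoint X ∈ f ⁻¹ᵁ W := by
      change f (genericPoint X) ∈ W
      rw [hξ]; exact hW
    let ξ : (f ⁻¹ᵁ W : X.Opens).toScheme := ⟨genericPoint X, hξW⟩
    have h4 := residueFieldMap_finite (f ∣_ W) ξ
    have h5 : ((f ∣_ W ≫ W.ι).residueFieldMap ξ).hom.Finite := by
      rw [Scheme.residueFieldMap_comp]
      exact h4.comp (RingHom.Finite.of_surjective _ (residueFieldMap_bijective W.ι _).2)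
    have h6 : (((f ⁻¹ᵁ W).ι ≫ f).residueFieldMap ξ).hom.Finite := by
      rw [← morphismRestrict_ι]; exact h5
    rw [Scheme.residueFieldMap_comp] at h6
    let e := RingEquiv.ofBijective ((f ⁻¹ᵁ W).ι.residueFieldMap ξ).hom
      (residueFieldMap_bijective (f ⁻¹ᵁ W).ι ξ)
    have h7 : (f.residueFieldMap ((f ⁻¹ᵁ W).ι ξ)).hom = e.symm.toRingHom.comp
        (((f ⁻¹ᵁ W).ι.residueFieldMap ξ).hom.comp (f.residueFieldMap ((f ⁻¹ᵁ W).ι ξ)).hom) := by
      refine RingHom.ext fun z => ?_
      exact (e.symm_apply_apply _).symm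
    change (f.residueFieldMap ((f ⁻¹ᵁ W).ι ξ)).hom.Finite
    rw [h7]
    exact (RingHom.Finite.of_surjective _ e.symm.surjective).comp h6
  · obtain ⟨h4, h5⟩ := fibre_rank f W y hy
    refine ⟨h4, h5.trans ?_⟩
    rw [← residueDegree_generic f hξ (fun x hx => eq_generic k a b hdim f hf x hx) W hW]
    have h6 : IsLocallyConstant (f ∣_ W).finrank := Scheme.Hom.isLocallyConstant_finrank _
    have hne : Nonempty W := ⟨⟨_, hW⟩⟩
    exact h6.apply_eq_of_preconnectedSpace _ _

end K811.GenFin
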