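import Groth.Agent.W4c1frobunstiva.K811.GenFin
import Groth.Agent.S2082
import Groth.Agent.Ega4A.RegCM
import Groth.Agent.S0386
import Groth.Agent.S1421
import Groth.Agent.S1426

/-!
# The rank of a finite fibre of a generically finite morphism of regular varieties
-/

set_option autoImplicit false
universe u

open CategoryTheory CategoryTheory.Limits AlgebraicGeometry
open Groth.Agent.CycB.RelDim Groth.Agent.CycB.FiniteFlat Groth.Agent.CycB.FiberStalk
  Groth.Agent.CycB.Push

namespace K811.FibreSemi

/-- The local multiplicity in the fibre. -/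
noncomputable def mult {X Y : Scheme.{u}} (f : X ⟶ Y) (x : X) : ℕ :=
  (Module.length (X.presheaf.stalk x) (X.presheaf.stalk x ⧸ fibIdeal f x)).toNat

set_option backward.isDefEq.respectTransparency.types false in
/-- Sum over a finite fibre. -/
theorem sum_fibre {X Y : Scheme.{u}} (f : X ⟶ Y) (y : Y)
    (hfin : IsFinite (f.fiberToSpecResidueField y)) (pt : Spec (Y.residueField y)) :
    ∑ᶠ x ∈ {x : X | f x = y}, mult f x * f.residueDegree x =
      (f.fiberToSpecResidueField y).finrank pt := by
  rw [finsum_fiber]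
  have h1 : ∀ z : f.fiber y, mult f (f.fiberι y z) * f.residueDegree (f.fiberι y z) =
      (rlen ((f.fiberToSpecResidueField y).stalkMap z).hom).toNat := by
    intro z
    rw [toNat_rlen_stalkMap, residueDegree_fiber, mult, length_stalk_fiber]
  rw [finsum_congr h1]
  exact @sum_rlen_field (IsLocalRing.ResidueField (Y.presheaf.stalk y)) _ (f.fiber y)
      (f.fiberToSpecResidueField y) hfin pt

/-- The weight. -/
noncomputable def wgt {X Y : Scheme.{u}} (f : X ⟶ Y) : ↑X → ℤ := fun x =>
      (Module.length ↑(X.presheaf.stalk x)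
        (↑(X.presheaf.stalk x) ⧸ Ideal.map (f.stalkMap x).hom
          (IsLocalRing.maximalIdeal ↑(Y.presheaf.stalk (f x))))).toNat *
        (letI := (f.residueFieldMap x).hom.toAlgebra
         (Field.finInsepDegree (Y.residueField (f x)) (X.residueField x) : ℤ))

theorem fibreIntegral_wgt {X Y : Scheme.{u}} (f : X ⟶ Y) (y : Y) :
    MoreMor.fibreIntegral f (wgt f) y =
      ((∑ᶠ x ∈ {x : X | f x = y}, mult f x * f.residueDegree x : ℕ) : ℤ) := by
  have h1 : ∀ x : X, wgt f x * (letI := (f.residueFieldMap x).hom.toAlgebra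
      (Field.finSepDegree (Y.residueField (f x)) (X.residueField x) : ℤ)) =
        ((mult f x * f.residueDegree x : ℕ) : ℤ) := by
    intro x
    letI := (f.residueFieldMap x).hom.toAlgebra
    have h2 := Field.finSepDegree_mul_finInsepDegree (Y.residueField (f x)) (X.residueField x)
    change ((mult f x : ℤ) * (Field.finInsepDegree (Y.residueField (f x)) (X.residueField x) : ℤ)) *
      (Field.finSepDegree (Y.residueField (f x)) (X.residueField x) : ℤ) =
      ((mult f x * Module.finrank (Y.residueField (f x)) (X.residueField x) : ℕ) : ℤ)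
    rw [← h2]
    push_cast
    ring
  rw [MoreMor.fibreIntegral, ← finsum_set_coe_eq_finsum_mem]
  have h3 := AddMonoidHom.map_finsum_of_injective (Nat.castAddMonoidHom ℤ) Nat.cast_injective
    (fun x : {x : X | f x = y} => mult f x * f.residueDegree (x : X))
  refine Eq.trans ?_ h3.symm
  exact finsum_congr fun x => h1 x.1

open IsLocalRing in
theorem ringKrullDim_fibre {A B : Type u} [CommRing A] [CommRing B] [IsLocalRing A] [IsLocalRing B]
    (φ : A →+* B) [IsLocalHom φ] (h : φ.QuasiFinite) :
    ringKrullDim (B ⧸ (maximalIdeal A).map φ) = 0 := by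
  algebraize [φ]
  have : IsLocalHom (algebraMap A B) := ‹IsLocalHom φ›
  have : Algebra.QuasiFinite A B := h
  have h1 : Module.Finite (A ⧸ maximalIdeal A)
      (TensorProduct A (A ⧸ maximalIdeal A) B) := by
    have : IsArtinianRing (A ⧸ maximalIdeal A) := by
      let : Field (A ⧸ maximalIdeal A) := Ideal.Quotient.field _
      infer_instance
    exact Module.Finite.of_quasiFinite
  have h2 : Module.Finite A (TensorProduct A (A ⧸ maximalIdeal A) B) :=
    Module.Finite.trans (A ⧸ maximalIdeal A) _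
  let e : (B ⧸ (maximalIdeal A).map (algebraMap A B)) ≃ₗ[A] TensorProduct A (A ⧸ maximalIdeal A) B :=
    ((Algebra.TensorProduct.quotIdealMapEquivTensorQuot B (maximalIdeal A)).toLinearEquiv.restrictScalars
      A).trans (TensorProduct.comm A _ _)
  have h3 : Module.Finite A (B ⧸ (maximalIdeal A).map (algebraMap A B)) := Module.Finite.equiv e.symm
  have h4 : Module.Finite (A ⧸ maximalIdeal A) (B ⧸ (maximalIdeal A).map (algebraMap A B)) :=
    Module.Finite.of_restrictScalars_finite A _ _
  have h5 : IsArtinianRing (B ⧸ (maximalIdeal A).map (algebraMap A B)) := by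
    have : IsArtinianRing (A ⧸ maximalIdeal A) := by
      let : Field (A ⧸ maximalIdeal A) := Ideal.Quotient.field _
      infer_instance
    exact IsArtinianRing.of_finite (A ⧸ maximalIdeal A) _
  have h6 : Nontrivial (B ⧸ (maximalIdeal A).map (algebraMap A B)) := by
    rw [Ideal.Quotient.nontrivial_iff]
    exact (((local_hom_TFAE φ).out 0 2 rfl rfl |>.mp inferInstance).trans_lt
      (maximalIdeal.isMaximal B).lt_top).ne
  exact ringKrullDimZero_iff_ringKrullDim_eq_zero.1 inferInstance

theorem rtd_eq_zero {X Y : Scheme.{u}} (f : X ⟶ Y) [LocallyOfFiniteType f] (x : X)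
    (hq : f.QuasiFiniteAt x) : rtd f x = 0 := by
  let z : f.quasiFiniteLocus.toScheme := ⟨x, hq⟩
  have h1 := Groth.Agent.Sga4h.GeoDim.trdegAt_eq_zero_of_locallyQuasiFinite
    (f.quasiFiniteLocus.ι ≫ f) z
  have h2 := rtd_comp f.quasiFiniteLocus.ι f z
  have h3 : rtd f x + rtd f.quasiFiniteLocus.ι z = 0 := h2.symm.trans h1
  exact (add_eq_zero.1 h3).1

theorem flat_at (k : Type u) [Field k] {X Y : Scheme.{u}} (a : X ⟶ Spec (CommRingCat.of k))
    (b : Y ⟶ Spec (CommRingCat.of k)) [LocallyOfFiniteType a] [LocallyOfFiniteType b]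
    [IsIntegral X] [IsIntegral Y] (hdim : topologicalKrullDim ↥X = topologicalKrullDim ↥Y)
    (f : X ⟶ Y) [LocallyOfFiniteType f] (hf : f ≫ b = a) (x : X)
    (hX : IsRegularLocalRing (X.presheaf.stalk x))
    (hY : IsRegularLocalRing (Y.presheaf.stalk (f x))) (hq : f.QuasiFiniteAt x) :
    (f.stalkMap x).hom.Flat := by
  obtain ⟨a₁, t₁, n₁, h1, h2, -, h3, h4⟩ := Groth.Agent.CycA.IntLocal.exists_dims a x
  obtain ⟨a₂, t₂, n₂, h1', h2', -, h3', h4'⟩ := Groth.Agent.CycA.IntLocal.exists_dims b (f x)
  have hn : n₁ = n₂ := by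
    rw [h3, h3'] at hdim
    exact_mod_cast hdim
  have ht : t₁ = t₂ := by
    have h5 := rtd_comp f b x
    rw [hf, rtd_eq_zero f x hq, add_zero, h2, h2'] at h5
    exact_mod_cast h5
  have ha : a₁ = a₂ := by omega
  letI := (f.stalkMap x).hom.toAlgebra
  have : IsLocalHom (algebraMap (Y.presheaf.stalk (f x)) (X.presheaf.stalk x)) :=
    inferInstanceAs (IsLocalHom (f.stalkMap x).hom)
  have : LocCoh.IsCohenMacaulayLocalRing (X.presheaf.stalk x) :=
    Groth.Agent.Ega4A.RegCM.isCohenMacaulayLocalRing_of_isRegularLocalRing _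
  refine Groth.Agent.S2082.result ?_
  rw [h1, h1', ha]
  have h6 := ringKrullDim_fibre (f.stalkMap x).hom hq
  erw [h6]
  rw [add_zero]

theorem mult_generic {X Y : Scheme.{u}} [IsIntegral X] (f : X ⟶ Y) :
    mult f (genericPoint X) = 1 := by
  have hfield : IsField (X.presheaf.stalk (genericPoint X)) := Field.toIsField X.functionField
  have hmax : (fibIdeal f (genericPoint X)).IsMaximal := by
    have h4 : fibIdeal f (genericPoint X) = ⊥ := by
      letI := hfield.toField
      exact (Ideal.eq_bot_or_top _).resolve_right (fibIdeal_ne_top _ _)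
    rw [h4]
    letI := hfield.toField
    exact Ideal.bot_isMaximal
  have hlen : Module.length (X.presheaf.stalk (genericPoint X))
      (X.presheaf.stalk (genericPoint X) ⧸ fibIdeal f (genericPoint X)) = 1 :=
    Module.length_eq_one_iff.2 (isSimpleModule_iff_isCoatom.2 hmax.out)
  rw [mult, hlen]
  rfl

theorem flat_field (K : Type u) [Field K] {F : Scheme.{u}}
    (h : F ⟶ Spec (CommRingCat.of K)) [IsFinite h] : Flat h := by
  have hF : IsAffine F := isAffine_of_isAffineHom h
  obtain ⟨φ, hφ⟩ := Spec.map_surjective (F.isoSpec.inv ≫ h)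
  have hg : h = F.isoSpec.hom ≫ Spec.map φ := by rw [hφ, Iso.hom_inv_id_assoc]
  have hfl : Flat (Spec.map φ) := by
    rw [Flat.SpecMap_iff]
    algebraize [φ.hom]
    exact (inferInstance : Module.Flat K Γ(F, ⊤))
  rw [hg]
  infer_instance

/-- An open neighbourhood of the fibre has the same fibre. -/
theorem isPullback_open {X Y : Scheme.{u}} (f : X ⟶ Y) (y : Y) (U : X.Opens)
    (hU : ∀ x, f x = y → x ∈ U) : ∃ l : f.fiber y ⟶ U,
      IsPullback l (f.fiberToSpecResidueField y) (U.ι ≫ f) (Y.fromSpecResidueField y) := by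
  have hr : Set.range (f.fiberι y) ⊆ Set.range U.ι := by
    rw [f.range_fiberι y, Scheme.Opens.range_ι]
    exact fun x hx => hU x hx
  let l : f.fiber y ⟶ U := IsOpenImmersion.lift U.ι (f.fiberι y) hr
  have hl : l ≫ U.ι = f.fiberι y := IsOpenImmersion.lift_fac _ _ _
  have h1 : IsPullback (𝟙 (f.fiber y)) l (f.fiberι y) U.ι := by
    refine IsPullback.of_isLimit' ⟨by rw [hl, Category.id_comp]⟩
      (PullbackCone.IsLimit.mk _ (fun s => s.fst) (fun s => Category.comp_id _) (fun s => ?_)
        (fun s m h1 h2 => ?_))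
    · rw [← cancel_mono U.ι, Category.assoc, hl]
      exact s.condition
    · rw [← h1]; exact (Category.comp_id _).symm
  have h2 : IsPullback (f.fiberToSpecResidueField y) (f.fiberι y) (Y.fromSpecResidueField y) f :=
    (IsPullback.of_hasPullback f (Y.fromSpecResidueField y)).flip
  have h3 := h1.paste_horiz h2
  rw [Category.id_comp] at h3
  exact ⟨l, h3.flip⟩

theorem fibre_open {X Y : Scheme.{u}} (f : X ⟶ Y) (y : Y) (U : X.Opens)
    (hU : ∀ x, f x = y → x ∈ U) (hfin : IsFinite (f.fiberToSpecResidueField y))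
    (pt : Spec (Y.residueField y)) :
    IsFinite ((U.ι ≫ f).fiberToSpecResidueField y) ∧
      ((U.ι ≫ f).fiberToSpecResidueField y).finrank pt =
        (f.fiberToSpecResidueField y).finrank pt := by
  obtain ⟨l, hl⟩ := isPullback_open f y U hU
  obtain ⟨e, he⟩ : ∃ e : f.fiber y ≅ (U.ι ≫ f).fiber y,
      e.inv ≫ f.fiberToSpecResidueField y = (U.ι ≫ f).fiberToSpecResidueField y :=
    ⟨hl.isoPullback, hl.isoPullback_inv_snd⟩
  have h3 : IsFinite ((U.ι ≫ f).fiberToSpecResidueField y) := by
    rw [← he]; infer_instance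
  refine ⟨h3, ?_⟩
  have hfl : Flat (f.fiberToSpecResidueField y) :=
    @flat_field (IsLocalRing.ResidueField (Y.presheaf.stalk y)) _ (f.fiber y)
      (f.fiberToSpecResidueField y) hfin
  rw [← he, Scheme.Hom.finrank_comp_left_of_isIso]

set_option backward.isDefEq.respectTransparency.types false in
theorem main (k : Type u) [Field k] {X Y : Scheme.{u}}
    (a : X ⟶ Spec (CommRingCat.of k))
    (b : Y ⟶ Spec (CommRingCat.of k)) [LocallyOfFiniteType a] [LocallyOfFiniteType b]
    [QuasiCompact a] [QuasiCompact b]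
    [IsIntegral X] [IsIntegral Y] (f : X ⟶ Y) [IsDominant f] (hf : f ≫ b = a)
    (hdim : topologicalKrullDim ↥X = topologicalKrullDim ↥Y)
    [IsSeparated f] (hX : ∀ x : X, IsRegularLocalRing (X.presheaf.stalk x))
    (hY : ∀ y : Y, IsRegularLocalRing (Y.presheaf.stalk y)) (y : Y)
    (hy : IsFinite (f.fiberToSpecResidueField y)) (pt : Spec (Y.residueField y)) :
    (f.fiberToSpecResidueField y).finrank pt ≤ f.residueDegree (genericPoint X) := by
  have h1 : LocallyOfFiniteType f := by
    have : LocallyOfFiniteType (f ≫ b) := by rw [hf]; infer_instance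
    exact locallyOfFiniteType_of_comp f b
  have hln : IsLocallyNoetherian X := LocallyOfFiniteType.isLocallyNoetherian a
  have hlnY : IsLocallyNoetherian Y := LocallyOfFiniteType.isLocallyNoetherian b
  have hcX : CompactSpace X := HasAffineProperty.iff_of_isAffine (P := @QuasiCompact).mp ‹QuasiCompact a›
  have : IsNoetherian X := {}
  have hfp : LocallyOfFinitePresentation f := LocallyOfFinitePresentation.iff_locallyOfFiniteType.2 h1
  let U : X.Opens := f.quasiFiniteLocus ⊓ ⟨_, Groth.Agent.S0386.result f⟩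
  have hU : ∀ x, f x = y → x ∈ U := by
    rintro x rfl
    have hq : f.QuasiFiniteAt x := by
      rw [Scheme.Hom.quasiFiniteAt_iff_isOpen_singleton_asFiber]
      have : IsLocallyArtinian (f.fiber (f x)) :=
        .of_locallyQuasiFinite (f.fiberToSpecResidueField (f x))
      exact isOpen_discrete _
    exact ⟨hq, flat_at k a b hdim f hf x (hX x) (hY _) hq⟩
  obtain ⟨hfin', hrank⟩ := fibre_open f y U hU hy pt
  rw [← hrank, ← sum_fibre (U.ι ≫ f) y hfin' pt]
  by_cases hne : Nonempty U
  swap
  · have h2 : {x : U.toScheme | (U.ι ≫ f) x = y} = ∅ := by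
      ext x
      exact (hne ⟨x⟩).elim
    rw [h2, finsum_mem_empty]
    exact Nat.zero_le _
  have hlqf : LocallyQuasiFinite (U.ι ≫ f) := by
    have h2 : U.ι ≫ f = X.homOfLE (show U ≤ f.quasiFiniteLocus from inf_le_left) ≫
        (f.quasiFiniteLocus.ι ≫ f) := by
      rw [Scheme.homOfLE_ι_assoc]
    rw [h2]
    infer_instance
  have hflat : Flat (U.ι ≫ f) := by
    refine Flat.of_stalkMap _ fun u => ?_
    rw [Scheme.Hom.stalkMap_comp]
    have h2 : (f.stalkMap (U.ι u)).hom.Flat := u.2.2
    have h3 : (U.ι.stalkMap u).hom.Flat := Flat.stalkMap U.ι u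
    exact h2.comp h3
  have hfib : ∀ v : Y, ((U.ι ≫ f) ⁻¹' {v}).Finite := fun v =>
    (U.ι ≫ f).finite_preimage_singleton v
  obtain ⟨hw, hpos⟩ := Groth.Agent.S1421.result (U.ι ≫ f)
  have hlsc := Groth.Agent.S1426.result (U.ι ≫ f) hfib _ hw hpos
  by_contra hlt
  rw [not_le] at hlt
  have hξ := GenFin.map_genericPoint f
  have hξU : U.ι (genericPoint U.toScheme) = genericPoint X := genericPoint_eq_of_isOpenImmersion _
  have hset : {x : U.toScheme | (U.ι ≫ f) x = genericPoint Y} = {genericPoint U.toScheme} := by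
    ext x
    simp only [Set.mem_ofPred_eq, Set.mem_singleton_iff]
    constructor
    · intro hx
      have h2 := GenFin.eq_generic k a b hdim f hf (U.ι x) hx
      rw [← hξU] at h2
      exact U.ι.isOpenEmbedding.injective h2
    · rintro rfl
      change f (U.ι (genericPoint U.toScheme)) = _
      rw [hξU, hξ]
  have hη : MoreMor.fibreIntegral (U.ι ≫ f) (wgt (U.ι ≫ f)) (genericPoint Y) =
      ((f.residueDegree (genericPoint X) : ℕ) : ℤ) := by
    rw [fibreIntegral_wgt, hset, finsum_mem_singleton, mult_generic, one_mul,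
      residueDegree_comp, residueDegree_of_surjectiveOnStalks U.ι, mul_one, hξU]
  have hy' := fibreIntegral_wgt (U.ι ≫ f) y
  have h4 : MoreMor.fibreIntegral (U.ι ≫ f) (wgt (U.ι ≫ f)) (genericPoint Y) <
      MoreMor.fibreIntegral (U.ι ≫ f) (wgt (U.ι ≫ f)) y := by
    rw [hη, hy']
    exact_mod_cast hlt
  have h5 := hlsc y _ h4
  have h6 : ∀ᶠ v in nhds (genericPoint Y),
      MoreMor.fibreIntegral (U.ι ≫ f) (wgt (U.ι ≫ f)) (genericPoint Y) <
      MoreMor.fibreIntegral (U.ι ≫ f) (wgt (U.ι ≫ f)) v :=
    (genericPoint_specializes y) h5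
  exact lt_irrefl _ h6.self_of_nhds

end K811.FibreSemi
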