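import Groth.Agent.W4c1frobunstiva.K811.Herm
import Mathlib.Data.Nat.Prime.Defs

/-!
# Reduction with column operations by series in `t^p`
-/

set_option autoImplicit false
universe u

open PowerSeries Matrix

namespace K811.HermP

open K811.Herm

variable {k : Type u} [Field k] {r : ℕ}

/-- series in `X^p`. -/
def InP (p : ℕ) (f : k⟦X⟧) : Prop := ∀ n, ¬ p ∣ n → coeff n f = 0

theorem InP.zero (p : ℕ) : InP p (0 : k⟦X⟧) := fun n _ => by simp

theorem InP.one (p : ℕ) : InP p (1 : k⟦X⟧) := fun n hn => by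
  rw [coeff_one, if_neg]
  rintro rfl
  exact hn (dvd_zero p)

theorem InP.add {p : ℕ} {f g : k⟦X⟧} (hf : InP p f) (hg : InP p g) : InP p (f + g) :=
  fun n hn => by rw [map_add, hf n hn, hg n hn, add_zero]

theorem InP.mul {p : ℕ} {f g : k⟦X⟧} (hf : InP p f) (hg : InP p g) : InP p (f * g) := by
  intro n hn
  rw [coeff_mul]
  refine Finset.sum_eq_zero fun x hx => ?_
  rw [Finset.mem_antidiagonal] at hx
  by_cases h1 : p ∣ x.1
  · have h2 : ¬ p ∣ x.2 := fun h2 => hn (hx ▸ dvd_add h1 h2)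
    rw [hg _ h2, mul_zero]
  · rw [hf _ h1, zero_mul]

theorem InP.sum {p : ℕ} {ι : Type*} (s : Finset ι) {f : ι → k⟦X⟧} (hf : ∀ i ∈ s, InP p (f i)) :
    InP p (∑ i ∈ s, f i) := by
  intro n hn
  rw [map_sum]
  exact Finset.sum_eq_zero fun i hi => hf i hi n hn

/-- the series in `X^p` matching `f` in degrees `≥ e` congruent to `e`. -/
noncomputable def part (p e : ℕ) (f : k⟦X⟧) : k⟦X⟧ :=
  PowerSeries.mk fun m => if p ∣ m then coeff (m + e) f else 0

theorem part_inP (p e : ℕ) (f : k⟦X⟧) : InP p (part p e f) := fun n hn => by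
  rw [part, coeff_mk, if_neg hn]

theorem coeff_sub_part (p e n : ℕ) (f : k⟦X⟧) (h1 : e ≤ n) (h2 : n % p = e % p) :
    coeff n (f - part p e f * X ^ e) = 0 := by
  rw [map_sub, coeff_mul_X_pow', if_pos h1, part, coeff_mk, if_pos, Nat.sub_add_cancel h1, sub_self]
  exact (Nat.modEq_iff_dvd' h1).1 h2.symm

/-- solving for the column. -/
theorem exists_col (p : ℕ) {H : Matrix (Fin r) (Fin r) k⟦X⟧} {e : Fin r → ℕ} (hH : Tri H e)
    (u : Fin r → k⟦X⟧) (m : ℕ) :
    ∃ c : Fin r → k⟦X⟧, (∀ i, InP p (c i)) ∧ (∀ i : Fin r, (i : ℕ) + m < r → c i = 0) ∧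
      ∀ i : Fin r, r ≤ (i : ℕ) + m → ∀ n, e i ≤ n → n % p = e i % p →
        coeff n ((H *ᵥ c + u) i) = 0 := by
  induction m with
  | zero => exact ⟨0, fun i => InP.zero p, fun _ _ => rfl, fun i hi => absurd hi (by omega)⟩
  | succ m ih =>
    obtain ⟨c, h1, h2, h3⟩ := ih
    by_cases hm : m < r
    swap
    · exact ⟨c, h1, fun i hi => h2 i (by omega), fun i _ => h3 i (by omega)⟩
    let l : Fin r := ⟨r - (m + 1), by omega⟩
    let d : Fin r → k⟦X⟧ := Pi.single l (part p (e l) ((H *ᵥ c + u) l))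
    have hd : ∀ i, (H *ᵥ d) i = H i l * part p (e l) ((H *ᵥ c + u) l) := by
      intro i
      simp [d, Matrix.mulVec_single]
    have hval : ∀ i, (H *ᵥ (c - d) + u) i = (H *ᵥ c + u) i -
        H i l * part p (e l) ((H *ᵥ c + u) l) := by
      intro i
      rw [Matrix.mulVec_sub, Pi.add_apply, Pi.sub_apply, hd]
      change _ = ((H *ᵥ c) i + u i) - _
      ring
    refine ⟨c - d, fun i => ?_, fun i hi => ?_, fun i hi n hn1 hn2 => ?_⟩
    · rw [Pi.sub_apply, sub_eq_add_neg]
      refine (h1 i).add ?_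
      simp only [d, Pi.single_apply]
      split_ifs
      · intro n hn
        rw [map_neg, part_inP p _ _ n hn, neg_zero]
      · intro n hn; simp
    · rw [Pi.sub_apply, h2 i (by omega), zero_sub, neg_eq_zero]
      simp only [d, Pi.single_apply]
      rw [if_neg]
      rintro rfl
      simp only [l] at hi
      omega
    · rw [hval]
      rcases Nat.lt_or_ge ((i : ℕ) + m) r with h | h
      · have : i = l := by
          apply Fin.ext
          simp only [l]
          omega
        subst this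
        rw [hH.diag, mul_comm]
        exact coeff_sub_part p _ n _ hn1 hn2
      · rw [hH.low i l (by rw [Fin.lt_def]; simp only [l]; omega), zero_mul, sub_zero]
        exact h3 i h n hn1 hn2

/-- block matrices -/
noncomputable def B (A : Matrix (Fin r) (Fin r) k⟦X⟧) (v : Fin r → k⟦X⟧) (d : k⟦X⟧) :
    Matrix (Fin (r + 1)) (Fin (r + 1)) k⟦X⟧ :=
  Matrix.of fun i j => Fin.lastCases (motive := fun _ => k⟦X⟧)
    (Fin.lastCases (motive := fun _ => k⟦X⟧) d (fun _ => 0) j)
    (fun i' => Fin.lastCases (motive := fun _ => k⟦X⟧) (v i') (fun j' => A i' j') j) i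

variable (A A' : Matrix (Fin r) (Fin r) k⟦X⟧) (v v' : Fin r → k⟦X⟧) (d d' : k⟦X⟧)

@[local simp] theorem B_cc (i j : Fin r) : B A v d i.castSucc j.castSucc = A i j := by simp [B]
@[local simp] theorem B_cl (i : Fin r) : B A v d i.castSucc (Fin.last r) = v i := by simp [B]
@[local simp] theorem B_lc (j : Fin r) : B A v d (Fin.last r) j.castSucc = 0 := by simp [B]
@[local simp] theorem B_ll : B A v d (Fin.last r) (Fin.last r) = d := by simp [B]

theorem B_mul : B A v d * B A' v' d' = B (A * A') (A *ᵥ v' + d' • v) (d * d') := by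
  ext i j : 2
  rw [Matrix.mul_apply, Fin.sum_univ_castSucc]
  refine Fin.lastCases ?_ (fun i => ?_) i <;> refine Fin.lastCases ?_ (fun j => ?_) j
  · simp
  · simp
  · simp [Matrix.mulVec, dotProduct, mul_comm]
  · simp [Matrix.mul_apply]

theorem B_one : B (1 : Matrix (Fin r) (Fin r) k⟦X⟧) 0 1 = 1 := by
  ext i j : 2
  refine Fin.lastCases ?_ (fun i => ?_) i <;> refine Fin.lastCases ?_ (fun j => ?_) j
  · simp
  · rw [B_lc, Matrix.one_apply, if_neg (Fin.castSucc_lt_last j).ne']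
  · rw [B_cl, Matrix.one_apply, if_neg (Fin.castSucc_lt_last i).ne]
    rfl
  · simp [Matrix.one_apply]

theorem B_isUnit (hA : IsUnit A) : IsUnit (B A v 1) := by
  obtain ⟨u, rfl⟩ := hA
  let w : Fin r → k⟦X⟧ := -((↑u⁻¹ : Matrix (Fin r) (Fin r) k⟦X⟧) *ᵥ v)
  have h1 : B (↑u : Matrix (Fin r) (Fin r) k⟦X⟧) v 1 * B (↑u⁻¹ : Matrix (Fin r) (Fin r) k⟦X⟧) w 1 = 1 := by
    rw [B_mul, Units.mul_inv, ← B_one, mul_one]
    congr 1
    simp only [w, Matrix.mulVec_neg, Matrix.mulVec_mulVec, Units.mul_inv, Matrix.one_mulVec, one_smul]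
    simp
  have h2 := congrArg Matrix.det h1
  rw [Matrix.det_mul, Matrix.det_one] at h2
  rw [Matrix.isUnit_iff_isUnit_det]
  exact IsUnit.of_mul_eq_one _ h2

theorem eq_B (H : Matrix (Fin (r + 1)) (Fin (r + 1)) k⟦X⟧) (h : ∀ j : Fin r, H (Fin.last r) j.castSucc = 0) :
    H = B (Matrix.of fun i j => H i.castSucc j.castSucc) (fun i => H i.castSucc (Fin.last r))
      (H (Fin.last r) (Fin.last r)) := by
  ext i j : 2
  refine Fin.lastCases ?_ (fun i => ?_) i <;> refine Fin.lastCases ?_ (fun j => ?_) j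
  · simp
  · simp [h]
  · simp
  · simp

/-- The form required. -/
structure Form (p : ℕ) (H : Matrix (Fin r) (Fin r) k⟦X⟧) (e : Fin r → ℕ) : Prop extends Tri H e where
  red : ∀ i j, i < j → ∀ n, (e j ≤ n ∨ (e i ≤ n ∧ n % p = e i % p)) → coeff n (H i j) = 0

theorem exists_form (p : ℕ) : ∀ (r : ℕ) (H : Matrix (Fin r) (Fin r) k⟦X⟧) (e : Fin r → ℕ),
    Tri H e → ∃ N P : Matrix (Fin r) (Fin r) k⟦X⟧, IsUnit N ∧ IsUnit P ∧
      (∀ i j, InP p (P i j)) ∧ Form p (N * H * P) e
  | 0, H, e, hH => ⟨1, 1, isUnit_one, isUnit_one, fun i => i.elim0,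
      ⟨⟨fun i => i.elim0, fun i => i.elim0⟩, fun i => i.elim0⟩⟩
  | r + 1, H, e, hH => by
    let A : Matrix (Fin r) (Fin r) k⟦X⟧ := Matrix.of fun i j => H i.castSucc j.castSucc
    let v : Fin r → k⟦X⟧ := fun i => H i.castSucc (Fin.last r)
    let E := e (Fin.last r)
    have hHB : H = B A v (X ^ E) := by
      rw [eq_B H (fun j => hH.low _ _ (Fin.castSucc_lt_last j)), hH.diag (Fin.last r)]
    have hA : Tri A (fun i => e i.castSucc) :=
      ⟨fun i => hH.diag _, fun i j hij => hH.low _ _ (Fin.castSucc_lt_castSucc_iff.2 hij)⟩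
    obtain ⟨N, P, hN, hP, hPp, hF⟩ := exists_form p r A (fun i => e i.castSucc) hA
    obtain ⟨c, hc1, -, hc3⟩ := exists_col p hF.toTri (N *ᵥ v) r
    let w : Fin r → k⟦X⟧ := (N * A * P) *ᵥ c + N *ᵥ v
    let a : Fin r → k⟦X⟧ := fun i => - tail E (w i)
    have key : B N a 1 * H * B P (P *ᵥ c) 1 = B (N * A * P) (w + (X : k⟦X⟧) ^ E • a) (X ^ E) := by
      rw [hHB, B_mul, B_mul]
      congr 1
      · simp only [w, Matrix.mulVec_mulVec, one_smul]
        abel
      · simp
    refine ⟨B N a 1, B P (P *ᵥ c) 1, B_isUnit N a hN, B_isUnit P _ hP, ?_, ?_⟩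
    · intro i j
      refine Fin.lastCases ?_ (fun i => ?_) i <;> refine Fin.lastCases ?_ (fun j => ?_) j
      · rw [B_ll]; exact InP.one p
      · rw [B_lc]; exact InP.zero p
      · rw [B_cl]
        rw [Matrix.mulVec, dotProduct]
        exact InP.sum _ fun l _ => (hPp i l).mul (hc1 l)
      · rw [B_cc]; exact hPp i j
    · rw [key]
      refine ⟨⟨?_, ?_⟩, ?_⟩
      · intro i
        refine Fin.lastCases ?_ (fun i => ?_) i
        · rw [B_ll]
        · rw [B_cc]; exact hF.diag i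
      · intro i j
        refine Fin.lastCases ?_ (fun i => ?_) i <;> refine Fin.lastCases ?_ (fun j => ?_) j
        · intro h; exact absurd h (lt_irrefl _)
        · intro _; rw [B_lc]
        · intro h; exact absurd h (Fin.le_last _).not_gt
        · intro h; rw [B_cc]; exact hF.low i j (Fin.castSucc_lt_castSucc_iff.1 h)
      · intro i j
        refine Fin.lastCases ?_ (fun i => ?_) i <;> refine Fin.lastCases ?_ (fun j => ?_) j
        · intro h; exact absurd h (lt_irrefl _)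
        · intro h; exact absurd h (Fin.le_last _).not_gt
        · intro _ n hn
          rw [B_cl]
          have h1 : (w + (X : k⟦X⟧) ^ E • a) i = w i - tail E (w i) * X ^ E := by
            simp only [a, Pi.add_apply, Pi.smul_apply, smul_eq_mul]
            ring
          rw [h1, coeff_sub_tail]
          split_ifs with hE
          · rfl
          · rcases hn with hn | ⟨hn1, hn2⟩
            · exact absurd hn hE
            · exact hc3 i (by omega) n hn1 hn2
        · intro h n hn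
          rw [B_cc]
          exact hF.red i j (Fin.castSucc_lt_castSucc_iff.1 h) n hn

theorem main (p : ℕ) (M : Matrix (Fin r) (Fin r) (PowerSeries k)) (hM : M.det ≠ 0) :
    ∃ (N P : Matrix (Fin r) (Fin r) (PowerSeries k)) (e : Fin r → ℕ), IsUnit N ∧ IsUnit P ∧
      (∀ i j n, ¬ p ∣ n → PowerSeries.coeff n (P i j) = 0) ∧
      (∀ i, (N * M * P) i i = PowerSeries.X ^ e i) ∧ (∀ i j, j < i → (N * M * P) i j = 0) ∧
      (∀ i j, i < j → ∀ n, (e j ≤ n ∨ (e i ≤ n ∧ n % p = e i % p)) →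
        PowerSeries.coeff n ((N * M * P) i j) = 0) := by
  obtain ⟨H, e, hT, -, hL⟩ := exists_reduced M hM
  obtain ⟨N₁, hN₁, rfl⟩ := exists_unit hT.det hL
  obtain ⟨N, P, hN, hP, hPp, hF⟩ := exists_form p r _ e hT
  refine ⟨N * N₁, P, e, hN.mul hN₁, hP, fun i j => hPp i j, ?_⟩
  rw [mul_assoc N N₁ M]
  exact ⟨hF.diag, hF.low, hF.red⟩

end K811.HermP
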