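import Groth.Statements.S14046
import Mathlib.RingTheory.Flat.Equalizer
import Mathlib.LinearAlgebra.TensorProduct.Prod
import Mathlib.RingTheory.TensorProduct.Maps
import Mathlib.Tactic.LinearCombination

/-!
# Base change of a union of closed subschemes with flat intersection
-/

set_option autoImplicit false
universe u v w

open TensorProduct

namespace K811.Inter

variable (R : Type u) (A : Type v) [CommRing R] [CommRing A] [Algebra R A] (I J : Ideal A)

/-- `A → A/I × A/J`. -/
def f : A →ₗ[R] (A ⧸ I) × (A ⧸ J) :=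
  (I.mkQ.restrictScalars R).prod (J.mkQ.restrictScalars R)

/-- the difference `A/I × A/J → A/(I+J)`. -/
def g : (A ⧸ I) × (A ⧸ J) →ₗ[R] (A ⧸ (I ⊔ J)) :=
  ((Submodule.factor (le_sup_left : I ≤ I ⊔ J)).restrictScalars R).comp (LinearMap.fst R _ _) -
  ((Submodule.factor (le_sup_right : J ≤ I ⊔ J)).restrictScalars R).comp (LinearMap.snd R _ _)

theorem g_mk (a b : A) : g R A I J (Submodule.Quotient.mk a, Submodule.Quotient.mk b) =
    Submodule.Quotient.mk (a - b) := rfl

theorem g_surj : Function.Surjective (g R A I J) := by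
  intro x
  obtain ⟨x, rfl⟩ := Submodule.Quotient.mk_surjective _ x
  exact ⟨(Submodule.Quotient.mk x, Submodule.Quotient.mk 0), by rw [g_mk, sub_zero]⟩

theorem f_inj (h : I ⊓ J = ⊥) : Function.Injective (f R A I J) := by
  rw [injective_iff_map_eq_zero]
  intro a ha
  have h1 : (Submodule.Quotient.mk a : A ⧸ I) = 0 := congrArg Prod.fst ha
  have h2 : (Submodule.Quotient.mk a : A ⧸ J) = 0 := congrArg Prod.snd ha
  rw [Submodule.Quotient.mk_eq_zero] at h1 h2
  have : a ∈ I ⊓ J := ⟨h1, h2⟩
  rw [h] at this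
  exact this

theorem fg_exact : Function.Exact (f R A I J) (g R A I J) := by
  rintro ⟨x, y⟩
  obtain ⟨x, rfl⟩ := Submodule.Quotient.mk_surjective _ x
  obtain ⟨y, rfl⟩ := Submodule.Quotient.mk_surjective _ y
  rw [g_mk, Submodule.Quotient.mk_eq_zero]
  constructor
  · intro h
    obtain ⟨i, hi, j, hj, hij⟩ := Submodule.mem_sup.1 h
    refine ⟨x - i, ?_⟩
    change ((Submodule.Quotient.mk (x - i) : A ⧸ I), (Submodule.Quotient.mk (x - i) : A ⧸ J)) = _
    ext
    · change (Submodule.Quotient.mk (x - i) : A ⧸ I) = Submodule.Quotient.mk x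
      rw [Submodule.Quotient.eq]
      simpa using hi
    · change (Submodule.Quotient.mk (x - i) : A ⧸ J) = Submodule.Quotient.mk y
      rw [Submodule.Quotient.eq]
      have : x - i - y = j := by linear_combination -hij
      rw [this]
      exact hj
  · rintro ⟨a, ha⟩
    have h1 : (Submodule.Quotient.mk a : A ⧸ I) = Submodule.Quotient.mk x := congrArg Prod.fst ha
    have h2 : (Submodule.Quotient.mk a : A ⧸ J) = Submodule.Quotient.mk y := congrArg Prod.snd ha
    rw [Submodule.Quotient.eq] at h1 h2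
    have : x - y = -(a - x) + (a - y) := by ring
    rw [this]
    exact Submodule.add_mem_sup (I.neg_mem h1) h2

theorem lTensor_inj (h : I ⊓ J = ⊥) [Module.Flat R (A ⧸ (I ⊔ J))] (R' : Type w) [CommRing R']
    [Algebra R R'] : Function.Injective (LinearMap.lTensor R' (f R A I J)) :=
  LinearMap.lTensor_injective_of_exact_of_flat (g R A I J) (g_surj R A I J) (f R A I J)
    (f_inj R A I J h) (fg_exact R A I J) R'

theorem map_le (I : Ideal A) (R' : Type w) [CommRing R'] [Algebra R R'] (x : R' ⊗[R] A)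
    (hx : x ∈ I.map (Algebra.TensorProduct.includeRight : A →ₐ[R] R' ⊗[R] A)) :
    LinearMap.lTensor R' (I.mkQ.restrictScalars R) x = 0 := by
  let m : R' ⊗[R] A →ₐ[R] R' ⊗[R] (A ⧸ I) :=
    Algebra.TensorProduct.map (AlgHom.id R R') (Ideal.Quotient.mkₐ R I)
  have hm : ∀ x, m x = LinearMap.lTensor R' (I.mkQ.restrictScalars R) x := by
    intro x
    induction x using TensorProduct.induction_on with
    | zero => rw [map_zero, map_zero]
    | tmul c x => rfl
    | add x y hx hy => rw [map_add, map_add, hx, hy]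
  rw [← hm]
  have : I.map (Algebra.TensorProduct.includeRight : A →ₐ[R] R' ⊗[R] A) ≤ RingHom.ker m := by
    rw [Ideal.map_le_iff_le_comap]
    intro i hi
    rw [Ideal.mem_comap, RingHom.mem_ker]
    change (1 : R') ⊗ₜ[R] (Ideal.Quotient.mk I i) = 0
    rw [Ideal.Quotient.eq_zero_iff_mem.2 hi, tmul_zero]
  exact this hx

theorem main (h : I ⊓ J = ⊥) [Module.Flat R (A ⧸ (I ⊔ J))] (R' : Type w) [CommRing R']
    [Algebra R R'] : I.map (Algebra.TensorProduct.includeRight : A →ₐ[R] R' ⊗[R] A) ⊓
      J.map (Algebra.TensorProduct.includeRight : A →ₐ[R] R' ⊗[R] A) = ⊥ := by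
  rw [eq_bot_iff]
  rintro x ⟨h1, h2⟩
  rw [Submodule.mem_bot]
  apply lTensor_inj R A I J h R'
  rw [map_zero]
  apply (TensorProduct.prodRight R R R' (A ⧸ I) (A ⧸ J)).injective
  rw [map_zero]
  have key : ∀ x : R' ⊗[R] A,
      TensorProduct.prodRight R R R' (A ⧸ I) (A ⧸ J) (LinearMap.lTensor R' (f R A I J) x) =
      (LinearMap.lTensor R' (I.mkQ.restrictScalars R) x,
        LinearMap.lTensor R' (J.mkQ.restrictScalars R) x) := by
    intro x
    induction x using TensorProduct.induction_on with
    | zero => simp; rfl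
    | tmul c x => rfl
    | add x y hx hy => rw [map_add, map_add, hx, hy, map_add, map_add]; rfl
  rw [key, map_le R A I R' x h1, map_le R A J R' x h2]
  rfl

end K811.Inter
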