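import Mathlib.AlgebraicGeometry.Morphisms.Integral
import Mathlib.AlgebraicGeometry.PullbackCarrier
import Mathlib.FieldTheory.IsAlgClosed.Basic
import Mathlib.RingTheory.Spectrum.Prime.Topology
import Mathlib.RingTheory.Polynomial.Nilpotent

/-!
# Points of connected integral schemes over an algebraically closed field
-/

set_option autoImplicit false
universe u v
open CategoryTheory CategoryTheory.Limits AlgebraicGeometry

namespace K811.ProperA

theorem idem_zero {B : Type*} [CommRing B] {e : B}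
    (he : IsIdempotentElem e) (h : ∀ p : PrimeSpectrum B, e ∈ p.asIdeal) : e = 0 := by
  have h2 : PrimeSpectrum.basicOpen e = ⊥ := by
    rw [eq_bot_iff]
    intro p hp
    exact absurd (h p) hp
  rw [PrimeSpectrum.basicOpen_eq_bot_iff] at h2
  obtain ⟨n, hn⟩ := h2
  rcases Nat.eq_zero_or_pos n with rfl | hn'
  · rw [pow_zero] at hn
    rw [← mul_one e, hn, mul_zero]
  · rw [he.pow_eq hn'.ne'] at hn
    exact hn

theorem idem_trivial {B : Type*} [CommRing B] [PreconnectedSpace (PrimeSpectrum B)] {e : B}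
    (he : IsIdempotentElem e) : e = 0 ∨ e = 1 := by
  have h1 : IsClopen ((PrimeSpectrum.basicOpen e : Set (PrimeSpectrum B))) :=
    PrimeSpectrum.isClopen_iff.2 ⟨e, he, rfl⟩
  rcases isClopen_iff.1 h1 with h | h
  · left
    refine idem_zero he fun p => ?_
    by_contra hp
    have : p ∈ (PrimeSpectrum.basicOpen e : Set (PrimeSpectrum B)) := hp
    rw [h] at this
    exact this
  · right
    have h2 : (1 : B) - e = 0 := by
      refine idem_zero he.one_sub fun p => ?_
      have h3 : p ∈ (PrimeSpectrum.basicOpen e : Set (PrimeSpectrum B)) := by rw [h]; trivial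
      have h4 : e * (1 - e) ∈ p.asIdeal := by
        rw [he.mul_one_sub_self]; exact zero_mem _
      exact (p.2.mem_or_mem h4).resolve_left h3
    exact (sub_eq_zero.1 h2).symm

open Polynomial in
/-- For an integral algebra with connected spectrum over an algebraically closed field, two
retractions agree. -/
theorem retraction_unique {Ω : Type*} [Field Ω] [IsAlgClosed Ω] {C : Type*} [CommRing C]
    [PreconnectedSpace (PrimeSpectrum C)] (φ : Ω →+* C) (hφ : φ.IsIntegral) (α β : C →+* Ω)
    (hα : α.comp φ = RingHom.id Ω) (hβ : β.comp φ = RingHom.id Ω) : α = β := by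
  have key : ∀ c : C, α c = 0 → β c = 0 := by
    intro c hc
    obtain ⟨F, hF, hFc⟩ := hφ c
    obtain ⟨m, G, hG, hFG⟩ : ∃ (m : ℕ) (G : Ω[X]), G.eval 0 ≠ 0 ∧ F = X ^ m * G := by
      obtain ⟨G, hG, hG2⟩ := Polynomial.exists_eq_pow_rootMultiplicity_mul_and_not_dvd F hF.ne_zero 0
      refine ⟨_, G, ?_, by simpa using hG⟩
      rw [Polynomial.dvd_iff_isRoot] at hG2
      exact hG2
    have hcop : IsCoprime ((X : Ω[X]) ^ m) G := by
      refine IsCoprime.pow_left ?_
      refine (Irreducible.coprime_iff_not_dvd (R := Ω[X]) irreducible_X).2 ?_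
      rw [X_dvd_iff, coeff_zero_eq_eval_zero]
      exact hG
    obtain ⟨u, v, huv⟩ := hcop
    have e1 : c ^ m * G.eval₂ φ c = 0 := by
      have := hFc
      rw [hFG, eval₂_mul, eval₂_pow, eval₂_X] at this
      exact this
    have e2 : u.eval₂ φ c * c ^ m + v.eval₂ φ c * G.eval₂ φ c = 1 := by
      have := congrArg (eval₂ φ c) huv
      rwa [eval₂_add, eval₂_mul, eval₂_mul, eval₂_pow, eval₂_X, eval₂_one] at this
    have he : IsIdempotentElem (u.eval₂ φ c * c ^ m) := by
      change _ * _ = _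
      have : u.eval₂ φ c * c ^ m * (u.eval₂ φ c * c ^ m) =
        u.eval₂ φ c * c ^ m * (u.eval₂ φ c * c ^ m + v.eval₂ φ c * G.eval₂ φ c) -
          u.eval₂ φ c * v.eval₂ φ c * (c ^ m * G.eval₂ φ c) := by ring
      rw [this, e2, e1, mul_zero, sub_zero, mul_one]
    have hm : m ≠ 0 := by
      rintro rfl
      rw [pow_zero, one_mul] at e1
      have h3 := congrArg α e1
      rw [Polynomial.hom_eval₂, hα, hc, map_zero] at h3
      exact hG h3
    rcases idem_trivial he with h | h
    · -- then G(c) is a unit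
      rw [h, zero_add] at e2
      have : c ^ m = 0 := by
        calc c ^ m = c ^ m * (v.eval₂ φ c * G.eval₂ φ c) := by rw [e2, mul_one]
          _ = v.eval₂ φ c * (c ^ m * G.eval₂ φ c) := by ring
          _ = 0 := by rw [e1, mul_zero]
      have h2 : (β c) ^ m = 0 := by rw [← map_pow, this, map_zero]
      exact (pow_eq_zero_iff hm).1 h2
    · exfalso
      have h3 := congrArg α h
      rw [map_mul, map_pow, hc, map_one, zero_pow hm, mul_zero] at h3
      exact zero_ne_one h3
  ext c
  have h1 : α (c - φ (α c)) = 0 := by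
    rw [map_sub, ← RingHom.comp_apply α φ, hα, RingHom.id_apply, sub_self]
  have h2 := key _ h1
  rw [map_sub, ← RingHom.comp_apply β φ, hβ, RingHom.id_apply, sub_eq_zero] at h2
  exact h2.symm

theorem section_unique {Ω : Type u} [Field Ω] [IsAlgClosed Ω] {Z : Scheme.{u}}
    (q : Z ⟶ Spec (CommRingCat.of Ω)) [IsIntegralHom q] [ConnectedSpace Z]
    (a b : Spec (CommRingCat.of Ω) ⟶ Z) (ha : a ≫ q = 𝟙 _) (hb : b ≫ q = 𝟙 _) : a = b := by
  have hZ : IsAffine Z := isAffine_of_isAffineHom q
  have hc : PreconnectedSpace (PrimeSpectrum Γ(Z, ⊤)) :=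
    (Scheme.homeoOfIso Z.isoSpec).surjective.denseRange.preconnectedSpace
      (Scheme.homeoOfIso Z.isoSpec).continuous
  let φ : Ω →+* Γ(Z, ⊤) := ((Scheme.ΓSpecIso (CommRingCat.of Ω)).inv ≫ q.appTop).hom
  have hφ : φ.IsIntegral := by
    have h1 : q.appTop.hom.IsIntegral := IsIntegralHom.isIntegral_app q ⊤ (isAffineOpen_top _)
    have h2 : (Scheme.ΓSpecIso (CommRingCat.of Ω)).inv.hom.IsIntegral :=
      RingHom.isIntegral_of_surjective _
        (Scheme.ΓSpecIso (CommRingCat.of Ω)).symm.commRingCatIsoToRingEquiv.surjective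
    exact h2.trans _ _ h1
  have hret : ∀ c : Spec (CommRingCat.of Ω) ⟶ Z, c ≫ q = 𝟙 _ →
      ((c.appTop ≫ (Scheme.ΓSpecIso (CommRingCat.of Ω)).hom).hom).comp φ = RingHom.id Ω := by
    intro c hc
    have h1 : (Scheme.ΓSpecIso (CommRingCat.of Ω)).inv ≫ q.appTop ≫ c.appTop ≫
        (Scheme.ΓSpecIso (CommRingCat.of Ω)).hom = 𝟙 _ := by
      rw [← Scheme.Hom.comp_appTop_assoc, hc]
      simp
    have h2 := congrArg CommRingCat.Hom.hom h1
    exact h2
  have hab := retraction_unique φ hφ _ _ (hret a ha) (hret b hb)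
  have h3 : a.appTop ≫ (Scheme.ΓSpecIso (CommRingCat.of Ω)).hom =
      b.appTop ≫ (Scheme.ΓSpecIso (CommRingCat.of Ω)).hom := CommRingCat.hom_ext hab
  rw [cancel_mono] at h3
  exact ext_of_isAffine h3

end K811.ProperA
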