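import Groth.Agent.W4c1frobunstiva.K811.ProperA
import Groth.Agent.Ega2.Normal
import Mathlib.AlgebraicGeometry.FunctionField
import Mathlib.AlgebraicGeometry.Morphisms.UnderlyingMap
import Mathlib.FieldTheory.PurelyInseparable.Basic
import Mathlib.FieldTheory.IsAlgClosed.AlgebraicClosure
import Mathlib.RingTheory.IntegralClosure.IntegrallyClosed

/-!
# Powers of sections of an integral morphism with connected geometric generic fibre
-/

set_option autoImplicit false
universe u v
open CategoryTheory CategoryTheory.Limits AlgebraicGeometry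

namespace K811.ProperB

open K811.ProperA

/-- Algebraic core. -/
theorem pow_mem_of_injective {R B : Type u} [CommRing R] [IsDomain R] [IsIntegrallyClosed R]
    [CommRing B] [IsDomain B] (φ : R →+* B) (hφ : φ.IsIntegral) (hinj : Function.Injective φ)
    (h : ∀ (Ω : Type u) [Field Ω] [IsAlgClosed Ω] (f₁ f₂ : B →+* Ω), Function.Injective f₁ →
      Function.Injective f₂ → f₁.comp φ = f₂.comp φ → f₁ = f₂) (b : B) :
    ∃ (n : ℕ) (r : R), 0 < n ∧ φ r = b ^ n := by
  let _ := φ.toAlgebra
  have hst : IsScalarTower R B (FractionRing B) := inferInstance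
  have : FaithfulSMul R (FractionRing B) := by
    rw [faithfulSMul_iff_algebraMap_injective, IsScalarTower.algebraMap_eq R B (FractionRing B)]
    exact (IsFractionRing.injective B (FractionRing B)).comp hinj
  let _ : Algebra (FractionRing R) (FractionRing B) := FractionRing.liftAlgebra R (FractionRing B)
  have : IsScalarTower R (FractionRing R) (FractionRing B) :=
    FractionRing.isScalarTower_liftAlgebra R (FractionRing B)
  have : Algebra.IsIntegral R B := ⟨hφ⟩
  have hpi : IsPurelyInseparable (FractionRing R) (FractionRing B) := by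
    have : Nonempty (FractionRing B →+* AlgebraicClosure (FractionRing B)) :=
      ⟨algebraMap _ _⟩
    refine IsPurelyInseparable.of_injective_comp_algebraMap (FractionRing R) (FractionRing B)
      (AlgebraicClosure (FractionRing B)) ?_
    intro f₁ f₂ hf
    have h1 := h (AlgebraicClosure (FractionRing B)) (f₁.comp (algebraMap B (FractionRing B)))
      (f₂.comp (algebraMap B (FractionRing B)))
      (f₁.injective.comp (IsFractionRing.injective B (FractionRing B)))
      (f₂.injective.comp (IsFractionRing.injective B (FractionRing B))) (by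
        ext r
        have := congrArg (fun g => g (algebraMap R (FractionRing R) r)) hf
        simp only [RingHom.comp_apply, ← IsScalarTower.algebraMap_apply] at this
        exact this)
    exact IsLocalization.ringHom_ext (nonZeroDivisors B) h1
  obtain ⟨q, hq⟩ := ExpChar.exists (FractionRing R)
  obtain ⟨n, k, hk⟩ := IsPurelyInseparable.pow_mem (FractionRing R) q
    (algebraMap B (FractionRing B) b)
  have hkint : IsIntegral R k := by
    rw [← isIntegral_algebraMap_iff (FaithfulSMul.algebraMap_injective (FractionRing R)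
      (FractionRing B)), hk]
    exact (IsIntegral.algebraMap (Algebra.IsIntegral.isIntegral b)).pow _
  obtain ⟨r, hr⟩ := IsIntegrallyClosed.isIntegral_iff.1 hkint
  refine ⟨q ^ n, r, pow_pos (expChar_pos (FractionRing R) q) n, ?_⟩
  apply IsFractionRing.injective B (FractionRing B)
  rw [map_pow, ← hk, ← hr, ← IsScalarTower.algebraMap_apply]
  rfl

variable {Y' Y : Scheme.{u}} [IsIntegral Y'] [IsIntegral Y]

theorem genericPoint_of_isDominant {W : Scheme.{u}} [IrreducibleSpace W] (y : W ⟶ Y)
    [IsDominant y] : y (genericPoint W) = genericPoint Y := by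
  refine (((genericPoint_spec W).image y.continuous).eq ?_)
  have : closure (Set.range y) = Set.univ := y.denseRange.closure_range
  rw [Set.image_univ, this]
  exact genericPoint_spec Y

omit [IsIntegral Y'] [IsIntegral Y] in
theorem section_eq (g : Y' ⟶ Y) [IsIntegralHom g] {Ω : Type u} [Field Ω] [IsAlgClosed Ω]
    (a b : Spec (CommRingCat.of Ω) ⟶ Y') (h : a ≫ g = b ≫ g)
    (hc : ConnectedSpace ↥(pullback g (b ≫ g))) : a = b := by
  have h1 := section_unique (pullback.snd g (b ≫ g))
    (pullback.lift a (𝟙 _) (by rw [h, Category.id_comp]))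
    (pullback.lift b (𝟙 _) (by rw [Category.id_comp])) (pullback.lift_snd _ _ _)
    (pullback.lift_snd _ _ _)
  have h2 := congrArg (· ≫ pullback.fst g (b ≫ g)) h1
  rw [pullback.lift_fst, pullback.lift_fst] at h2
  exact h2

theorem pow_mem (hY : Pi1.IsNormalScheme Y) (g : Y' ⟶ Y) [IsIntegralHom g] [IsDominant g]
    (hconn : ∀ (Ω : Type u) [Field Ω] [IsAlgClosed Ω] (y : Spec (CommRingCat.of Ω) ⟶ Y),
      IsDominant y → ConnectedSpace ↥(pullback g y)) (U : Y.Opens) (hU : IsAffineOpen U)
    (b : Γ(Y', g ⁻¹ᵁ U)) : ∃ (n : ℕ) (r : Γ(Y, U)), 0 < n ∧ (g.app U).hom r = b ^ n := by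
  by_cases hne : Nonempty U
  swap
  · have : U = ⊥ := by
      rw [eq_bot_iff]
      intro x hx
      exact absurd ⟨⟨x, hx⟩⟩ hne
    subst this
    have : Subsingleton Γ(Y', g ⁻¹ᵁ ⊥) := by
      rw [Scheme.Hom.preimage_bot]
      infer_instance
    exact ⟨1, 0, one_pos, Subsingleton.elim _ _⟩
  have hgp := genericPoint_of_isDominant g
  have hgU : genericPoint Y ∈ U :=
    ((genericPoint_spec Y).mem_open_set_iff U.isOpen).2 (by simpa using hne)
  have hgV : genericPoint Y' ∈ g ⁻¹ᵁ U := by
    change g _ ∈ U
    rwa [hgp]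
  have hneV : Nonempty (g ⁻¹ᵁ U) := ⟨⟨_, hgV⟩⟩
  have hV : IsAffineOpen (g ⁻¹ᵁ U) := hU.preimage g
  have hcl := Groth.Agent.Ega2.Normal.isIntegrallyClosed_of_isAffineOpen hY hU hne
  have hinj : Function.Injective (g.app U).hom := by
    rw [injective_iff_map_eq_zero]
    intro r hr
    by_contra h0
    have h1 : (Y.basicOpen r : Set Y).Nonempty := by
      rw [Set.nonempty_iff_ne_empty]
      intro he
      apply h0
      rw [← basicOpen_eq_bot_iff]
      exact TopologicalSpace.Opens.ext he
    have h2 : genericPoint Y ∈ Y.basicOpen r :=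
      ((genericPoint_spec Y).mem_open_set_iff (Y.basicOpen r).isOpen).2 (by simpa using h1)
    have h3 : genericPoint Y' ∈ g ⁻¹ᵁ (Y.basicOpen r) := by
      rw [Scheme.Hom.mem_preimage, hgp]
      exact h2
    rw [Scheme.preimage_basicOpen] at h3
    have h4 : Y'.basicOpen (g.app U r) = ⊥ := by
      rw [basicOpen_eq_bot_iff]
      exact hr
    rw [h4] at h3
    exact h3
  refine pow_mem_of_injective (g.app U).hom (IsIntegralHom.isIntegral_app g U hU) hinj ?_ b
  intro Ω _ _ f₁ f₂ h₁ h₂ hf
  let s : (Γ(Y', g ⁻¹ᵁ U) →+* Ω) → (Spec (CommRingCat.of Ω) ⟶ Y') := fun f =>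
    Spec.map (CommRingCat.ofHom f) ≫ hV.fromSpec
  have hs : ∀ f : Γ(Y', g ⁻¹ᵁ U) →+* Ω, s f ≫ g =
      Spec.map (CommRingCat.ofHom (f.comp (g.app U).hom)) ≫ hU.fromSpec := by
    intro f
    have := IsAffineOpen.SpecMap_appLE_fromSpec g hU hV le_rfl
    simp only [s, Category.assoc]
    rw [← this, ← Scheme.Hom.app_eq_appLE, ← Spec.map_comp_assoc]
    rfl
  have hdom : IsDominant (s f₂ ≫ g) := by
    have h5 : IsDominant hV.fromSpec := by
      refine ⟨IsOpen.dense hV.fromSpec.isOpenEmbedding.isOpen_range ?_⟩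
      rw [hV.range_fromSpec]
      exact ⟨_, hgV⟩
    have h6 : IsDominant (Spec.map (CommRingCat.ofHom f₂)) := by
      refine ⟨?_⟩
      change DenseRange (PrimeSpectrum.comap f₂)
      rw [PrimeSpectrum.denseRange_comap_iff_ker_le_nilRadical,
        (RingHom.injective_iff_ker_eq_bot _).1 h₂]
      exact bot_le
    infer_instance
  have h3 : s f₁ = s f₂ := section_eq g _ _ (by rw [hs, hs, hf]) (hconn Ω _ hdom)
  have h4 : Spec.map (CommRingCat.ofHom f₁) = Spec.map (CommRingCat.ofHom f₂) := by
    simp only [s] at h3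
    exact (cancel_mono hV.fromSpec).1 h3
  exact congrArg CommRingCat.Hom.hom (Spec.map_injective h4)

end K811.ProperB
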