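import Groth.Agent.W4c1frobunstiva.K811.ProperB
import Mathlib.RingTheory.Ideal.GoingUp
import Mathlib.AlgebraicGeometry.PullbackCarrier

/-!
# Integral morphisms with connected geometric generic fibre onto a normal scheme are injective
-/

set_option autoImplicit false
universe u v
open CategoryTheory CategoryTheory.Limits AlgebraicGeometry

namespace K811.ProperC

open K811.ProperB

theorem injective_of_pow {Y' Y : Scheme.{u}} (g : Y' ⟶ Y) [IsAffineHom g]
    (h : ∀ (U : Y.Opens), IsAffineOpen U → ∀ b : Γ(Y', g ⁻¹ᵁ U),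
      ∃ (n : ℕ) (r : Γ(Y, U)), 0 < n ∧ (g.app U).hom r = b ^ n) :
    Function.Injective g := by
  have key : ∀ y₁ y₂ : Y', g y₁ = g y₂ → ∀ W : Y'.Opens, y₁ ∈ W → y₂ ∈ W := by
    intro y₁ y₂ hy W hW
    obtain ⟨U, hU, hyU, -⟩ := exists_isAffineOpen_mem_and_subset (x := g y₁) (U := ⊤) trivial
    have hV : IsAffineOpen (g ⁻¹ᵁ U) := hU.preimage g
    have hy₁ : y₁ ∈ g ⁻¹ᵁ U := hyU
    obtain ⟨b, hb, hyb⟩ := hV.exists_basicOpen_le ⟨y₁, hW⟩ hy₁
    apply hb
    obtain ⟨n, r, hn, hr⟩ := h U hU b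
    have e1 : Y'.basicOpen b = g ⁻¹ᵁ (Y.basicOpen r) := by
      rw [Scheme.preimage_basicOpen]
      have : (g.app U) r = b ^ n := hr
      rw [this, Y'.basicOpen_pow b hn]
    rw [e1] at hyb ⊢
    rw [Scheme.Hom.mem_preimage] at hyb ⊢
    rwa [← hy]
  intro y₁ y₂ hy
  refine Inseparable.eq (inseparable_iff_forall_isOpen.2 fun s hs => ⟨fun h1 => ?_, fun h1 => ?_⟩)
  · exact key y₁ y₂ hy ⟨s, hs⟩ h1
  · exact key y₂ y₁ hy.symm ⟨s, hs⟩ h1

theorem eq_genericPoint {Y' Y : Scheme.{u}} [IsIntegral Y'] [IsIntegral Y] (g : Y' ⟶ Y)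
    [IsIntegralHom g] [IsDominant g] (w : Y') (hw : g w = genericPoint Y) :
    w = genericPoint Y' := by
  obtain ⟨U, hU, hyU, -⟩ := exists_isAffineOpen_mem_and_subset (x := genericPoint Y) (U := ⊤) trivial
  have hV : IsAffineOpen (g ⁻¹ᵁ U) := hU.preimage g
  have hne : Nonempty U := ⟨⟨_, hyU⟩⟩
  have hwV : w ∈ g ⁻¹ᵁ U := by rw [Scheme.Hom.mem_preimage, hw]; exact hyU
  have hgp := genericPoint_of_isDominant g
  have hgV : genericPoint Y' ∈ g ⁻¹ᵁ U := by rw [Scheme.Hom.mem_preimage, hgp]; exact hyU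
  have hneV : Nonempty (g ⁻¹ᵁ U) := ⟨⟨_, hgV⟩⟩
  have hint := IsIntegralHom.isIntegral_app g U hU
  rw [Scheme.Hom.app_eq_appLE] at hint
  have h1 := IsAffineOpen.comap_primeIdealOf_appLE (f := g) U hU (g ⁻¹ᵁ U) hV le_rfl hwV
  have h2 : hU.primeIdealOf ⟨g w, hwV⟩ = ⊥ := by
    have := hU.primeIdealOf_genericPoint
    rw [genericPoint_eq_bot_of_affine] at this
    rw [← this]
    congr 1
    exact Subtype.ext hw
  have h3 : (hV.primeIdealOf ⟨w, hwV⟩).asIdeal = ⊥ := by
    rw [h2] at h1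
    have h4 := congrArg PrimeSpectrum.asIdeal h1
    let _ := (g.appLE U (g ⁻¹ᵁ U) le_rfl).hom.toAlgebra
    have : Algebra.IsIntegral Γ(Y, U) Γ(Y', g ⁻¹ᵁ U) := ⟨hint⟩
    exact Ideal.eq_bot_of_comap_eq_bot (R := Γ(Y, U)) h4
  have h5 : hV.primeIdealOf ⟨w, hwV⟩ = hV.primeIdealOf ⟨genericPoint Y', hgV⟩ := by
    rw [hV.primeIdealOf_genericPoint, genericPoint_eq_bot_of_affine]
    exact PrimeSpectrum.ext h3
  have h6 := congrArg hV.fromSpec h5
  rw [hV.fromSpec_primeIdealOf, hV.fromSpec_primeIdealOf] at h6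
  exact h6

/-- Transfer of connectedness of the geometric generic fibre. -/
theorem connected_pullback {X Y' Y : Scheme.{u}} [IsIntegral X] [IsIntegral Y'] [IsIntegral Y]
    (h : X ⟶ Y') [IsDominant h] (g : Y' ⟶ Y) [IsIntegralHom g] [IsDominant g]
    {Ω : Type u} [Field Ω] (y : Spec (CommRingCat.of Ω) ⟶ Y) [IsDominant y]
    (hc : ConnectedSpace ↥(pullback (h ≫ g) y)) : ConnectedSpace ↥(pullback g y) := by
  have hc' : ConnectedSpace ↥(pullback h (pullback.fst g y)) := by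
    let e := Scheme.homeoOfIso (pullbackRightPullbackFstIso g y h)
    exact e.symm.surjective.connectedSpace e.symm.continuous
  have hsurj : Function.Surjective (pullback.snd h (pullback.fst g y)) := by
    intro z
    have h1 : g (pullback.fst g y z) = genericPoint Y := by
      rw [← Scheme.Hom.comp_apply, pullback.condition, Scheme.Hom.comp_apply,
        ← genericPoint_of_isDominant y]
      congr 1
      exact Subsingleton.elim (α := PrimeSpectrum Ω) _ _
    have h2 := eq_genericPoint g _ h1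
    obtain ⟨z', -, hz'⟩ := Scheme.Pullback.exists_preimage_pullback (f := h)
      (g := pullback.fst g y) (genericPoint X) z (by
        rw [genericPoint_of_isDominant h, h2])
    exact ⟨z', hz'⟩
  exact hsurj.connectedSpace (pullback.snd h (pullback.fst g y)).continuous

end K811.ProperC
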