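import Groth.Agent.Fitt.K360.Basic
import Groth.Agent.S6284
import Mathlib.RingTheory.Etale.Kaehler
import Mathlib.RingTheory.Etale.Basic
import Mathlib.RingTheory.Unramified.Basic
import Mathlib.RingTheory.Support
import Mathlib.RingTheory.Spectrum.Prime.FreeLocus
import Mathlib.RingTheory.RingHom.Etale
import Groth.Agent.Models.NodePushout

/-!
# The first Fitting ideal of the differentials at a node: algebraic part
-/

set_option autoImplicit false
universe u
open TensorProduct KaehlerDifferential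

namespace K811.SingAlg

section

variable {R A E : Type u} [CommRing R] [CommRing A] [CommRing E] [Algebra R A] [Algebra A E]
  [Algebra R E] [IsScalarTower R A E]

theorem mem_fitt (u v : E) (hspan : Submodule.span E {D R E u, D R E v} = ⊤)
    (hrel : v • D R E u + u • D R E v = 0) :
    u ∈ Fitt.ideal E Ω[E⁄R] 1 ∧ v ∈ Fitt.ideal E Ω[E⁄R] 1 := by
  have hx : Submodule.span E (Set.range ![D R E u, D R E v]) = ⊤ := by
    rw [← hspan]
    congr 1
    ext y
    simp [Matrix.range_cons, Matrix.range_empty, or_comm]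
  constructor
  · refine Ideal.subset_span ⟨2, ![D R E u, D R E v], !![v, u; -1, 0], hx, ?_, ?_⟩
    · intro i hi
      have : i = 0 := by ext; simp at hi ⊢; omega
      subst this
      simpa [Fin.sum_univ_two] using hrel
    · rw [Matrix.det_fin_two_of]; ring
  · refine Ideal.subset_span ⟨2, ![D R E u, D R E v], !![v, u; 0, 1], hx, ?_, ?_⟩
    · intro i hi
      have : i = 0 := by ext; simp at hi ⊢; omega
      subst this
      simpa [Fin.sum_univ_two] using hrel
    · rw [Matrix.det_fin_two_of]; ring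

theorem fitt_map [Algebra.FormallyEtale A E] [Module.Finite A Ω[A⁄R]] (r : ℕ) :
    Fitt.ideal E Ω[E⁄R] r = (Fitt.ideal A Ω[A⁄R] r).map (algebraMap A E) := by
  rw [← K360.FittBasic.ideal_baseChange]
  exact (K360.FittBasic.ideal_congr (tensorKaehlerEquivOfFormallyEtale R A E) r).symm

/-- Differentials of a formally unramified extension are spanned by the differentials of the base. -/
theorem span_of_unramified {N : Type u} [CommRing N] [Algebra R N] [Algebra N E]
    [IsScalarTower R N E] [Algebra.FormallyUnramified N E] (S : Submodule E Ω[E⁄R])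
    (hS : ∀ n : N, D R E (algebraMap N E n) ∈ S) : S = ⊤ := by
  have h1 : ∀ w : Ω[N⁄R], KaehlerDifferential.map R R N E w ∈ S := by
    intro w
    have hw : w ∈ Submodule.span N (Set.range (D R N)) := by
      rw [KaehlerDifferential.span_range_derivation]; trivial
    induction hw using Submodule.span_induction with
    | mem x hx =>
      obtain ⟨n, rfl⟩ := hx
      rw [KaehlerDifferential.map_D]
      exact hS n
    | zero => rw [map_zero]; exact S.zero_mem
    | add x y _ _ hx hy => rw [map_add]; exact S.add_mem hx hy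
    | smul a x _ hx =>
      rw [map_smul, ← IsScalarTower.algebraMap_smul E a]
      exact S.smul_mem _ hx
  have h2 : ∀ t : E ⊗[N] Ω[N⁄R], mapBaseChange R N E t ∈ S := by
    intro t
    induction t using TensorProduct.induction_on with
    | zero => rw [map_zero]; exact S.zero_mem
    | tmul e w => rw [mapBaseChange_tmul]; exact S.smul_mem _ (h1 w)
    | add x y hx hy => rw [map_add]; exact S.add_mem hx hy
  rw [eq_top_iff]
  intro x _
  obtain ⟨t, rfl⟩ := (exact_mapBaseChange_map R N E x).mp (Subsingleton.elim _ _)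
  exact h2 t

theorem D_eq_zero {C : Type u} [CommRing C] [Algebra R C] [Algebra C E] [IsScalarTower R C E]
    [Algebra.FormallyUnramified R C] (c : C) : D R E (algebraMap C E c) = 0 := by
  rw [← KaehlerDifferential.map_D R R C E c, Subsingleton.elim (D R C c) 0, map_zero]

/-- If `E` is formally unramified over `C[u, v]` and `C` is formally unramified over `R`, then
`Ω[E⁄R]` is spanned by `du`, `dv`. -/
theorem span_pair {C : Type u} [CommRing C] [Algebra R C] [Algebra C E] [IsScalarTower R C E]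
    [Algebra.FormallyUnramified R C] {N : Type u} [CommRing N] [Algebra R N] [Algebra N E]
    [IsScalarTower R N E] [Algebra.FormallyUnramified N E] (π : MvPolynomial (Fin 2) C →+* N)
    (hπ : Function.Surjective π)
    (hπC : ∀ c, algebraMap N E (π (MvPolynomial.C c)) = algebraMap C E c) :
    Submodule.span E {D R E (algebraMap N E (π (MvPolynomial.X 0))),
      D R E (algebraMap N E (π (MvPolynomial.X 1)))} = ⊤ := by
  refine span_of_unramified (N := N) _ fun n => ?_
  obtain ⟨q, rfl⟩ := hπ n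
  induction q using MvPolynomial.induction_on with
  | C c => rw [hπC, D_eq_zero (R := R) (E := E) c]; exact Submodule.zero_mem _
  | add p q hp hq => rw [map_add, map_add, map_add]; exact Submodule.add_mem _ hp hq
  | mul_X p i hp =>
    rw [map_mul, map_mul, Derivation.leibniz]
    refine Submodule.add_mem _ (Submodule.smul_mem _ _ ?_) (Submodule.smul_mem _ _ hp)
    fin_cases i
    · exact Submodule.subset_span (by simp)
    · exact Submodule.subset_span (by simp)

/-- The relation `v du + u dv = 0` when `uv` comes from `C`. -/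
theorem relation {C : Type u} [CommRing C] [Algebra R C] [Algebra C E] [IsScalarTower R C E]
    [Algebra.FormallyUnramified R C] (u v : E) (c : C) (h : u * v = algebraMap C E c) :
    v • D R E u + u • D R E v = 0 := by
  have h1 := Derivation.leibniz (D R E) u v
  rw [h, D_eq_zero (R := R) (E := E) c] at h1
  rw [add_comm]
  exact h1.symm

/-- Differentials of a quotient where the generators of the differentials die. -/
theorem subsingleton_of_surjective {E' : Type u} [CommRing E'] [Algebra E E'] [Algebra R E']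
    [IsScalarTower R E E'] (hsurj : Function.Surjective (algebraMap E E')) (u v : E)
    (hspan : Submodule.span E {D R E u, D R E v} = ⊤)
    (hu : algebraMap E E' u = 0) (hv : algebraMap E E' v = 0) : Subsingleton Ω[E'⁄R] := by
  have h1 : KaehlerDifferential.map R R E E' = 0 := by
    refine LinearMap.ext_on hspan ?_
    rintro x (rfl | rfl)
    · rw [KaehlerDifferential.map_D, hu, map_zero]; rfl
    · rw [KaehlerDifferential.map_D, hv, map_zero]; rfl
  have h2 : (⊤ : Submodule E' Ω[E'⁄R]) = ⊥ := by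
    rw [← KaehlerDifferential.span_range_derivation, Submodule.span_eq_bot]
    rintro _ ⟨e, rfl⟩
    obtain ⟨e, rfl⟩ := hsurj e
    rw [← KaehlerDifferential.map_D R R E E', h1]
    rfl
  have h3 : ∀ x : Ω[E'⁄R], x = 0 := fun x => by
    have : x ∈ (⊤ : Submodule E' Ω[E'⁄R]) := trivial
    rw [h2] at this
    exact this
  exact ⟨fun x y => (h3 x).trans (h3 y).symm⟩

attribute [local instance] Algebra.TensorProduct.rightAlgebra in
/-- The key vanishing. -/
theorem subsingleton_tensor (I : Ideal A) (u v : E)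
    (hspan : Submodule.span E {D R E u, D R E v} = ⊤)
    (hu : u ∈ I.map (algebraMap A E)) (hv : v ∈ I.map (algebraMap A E)) [Algebra.FormallyEtale A E] :
    Subsingleton ((((A ⧸ I) ⊗[A] E)) ⊗[A ⧸ I] Ω[(A ⧸ I)⁄R]) := by
  have h0 : ∀ x ∈ I.map (algebraMap A E), (1 : A ⧸ I) ⊗ₜ[A] x = 0 := by
    intro x hx
    refine Submodule.span_induction ?_ ?_ ?_ ?_ hx
    · rintro _ ⟨a, ha, rfl⟩
      rw [Algebra.algebraMap_eq_smul_one, ← TensorProduct.smul_tmul, Algebra.smul_def, mul_one]
      have : algebraMap A (A ⧸ I) a = 0 := Ideal.Quotient.eq_zero_iff_mem.2 ha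
      rw [this, TensorProduct.zero_tmul]
    · rw [TensorProduct.tmul_zero]
    · intro x y _ _ hx hy
      rw [TensorProduct.tmul_add, hx, hy, add_zero]
    · intro a x _ hx
      have : (1 : A ⧸ I) ⊗ₜ[A] (a • x) = ((1 : A ⧸ I) ⊗ₜ[A] a) * ((1 : A ⧸ I) ⊗ₜ[A] x) := by
        rw [Algebra.TensorProduct.tmul_mul_tmul, one_mul, smul_eq_mul]
      rw [this, hx, mul_zero]
  have htow : IsScalarTower R E ((A ⧸ I) ⊗[A] E) := by
    refine IsScalarTower.of_algebraMap_eq fun r => ?_
    change (algebraMap R (A ⧸ I) r) ⊗ₜ[A] (1 : E) = (1 : A ⧸ I) ⊗ₜ[A] (algebraMap R E r)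
    have ht : ∀ a : A, (algebraMap A (A ⧸ I) a) ⊗ₜ[A] (1 : E) = (1 : A ⧸ I) ⊗ₜ[A] (algebraMap A E a) := by
      intro a
      rw [Algebra.algebraMap_eq_smul_one, Algebra.algebraMap_eq_smul_one, TensorProduct.smul_tmul]
    rw [IsScalarTower.algebraMap_apply R A (A ⧸ I), IsScalarTower.algebraMap_apply R A E, ht]
  have hsurj : Function.Surjective (algebraMap E ((A ⧸ I) ⊗[A] E)) := by
    intro t
    induction t using TensorProduct.induction_on with
    | zero => exact ⟨0, map_zero _⟩
    | tmul x e =>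
      obtain ⟨a, rfl⟩ := Ideal.Quotient.mk_surjective x
      refine ⟨a • e, ?_⟩
      change (1 : A ⧸ I) ⊗ₜ[A] (a • e) = _
      rw [← TensorProduct.smul_tmul, Algebra.smul_def, mul_one]
      rfl
    | add x y hx hy =>
      obtain ⟨x, rfl⟩ := hx
      obtain ⟨y, rfl⟩ := hy
      exact ⟨x + y, map_add _ _ _⟩
  have h1 : Subsingleton Ω[((A ⧸ I) ⊗[A] E)⁄R] :=
    subsingleton_of_surjective (R := R) (E := E) hsurj u v hspan (h0 u hu) (h0 v hv)
  exact (tensorKaehlerEquivOfFormallyEtale R (A ⧸ I) ((A ⧸ I) ⊗[A] E)).injective.subsingleton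

attribute [local instance] Algebra.TensorProduct.rightAlgebra in
/-- Points in the image of `Spec E` are not in the support. -/
theorem exists_smul_eq_zero (I : Ideal A) (u v : E)
    (hspan : Submodule.span E {D R E u, D R E v} = ⊤)
    (hu : u ∈ I.map (algebraMap A E)) (hv : v ∈ I.map (algebraMap A E)) [Algebra.FormallyEtale A E]
    [Algebra.FiniteType R A] (P : Ideal E) [P.IsPrime] :
    ∃ g : A, algebraMap A E g ∉ P ∧ ∀ w : Ω[(A ⧸ I)⁄R], (Ideal.Quotient.mk I g) • w = 0 := by
  by_cases hIP : I.map (algebraMap A E) ≤ P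
  swap
  · have : ¬ I ≤ P.comap (algebraMap A E) := fun h => hIP (Ideal.map_le_iff_le_comap.2 h)
    obtain ⟨g, hg, hgP⟩ := Set.not_subset.1 this
    refine ⟨g, hgP, fun w => ?_⟩
    rw [Ideal.Quotient.eq_zero_iff_mem.2 hg, zero_smul]
  have hss := subsingleton_tensor (R := R) I u v hspan hu hv
  have hft : Algebra.FiniteType R (A ⧸ I) := inferInstance
  have hfin : Module.Finite (A ⧸ I) Ω[(A ⧸ I)⁄R] := inferInstance
  -- the prime of the tensor product
  let χ : (A ⧸ I) ⊗[A] E →ₐ[A] E ⧸ P :=
    Algebra.TensorProduct.lift (R := A) (S := A)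
      (Ideal.Quotient.liftₐ I ((Ideal.Quotient.mkₐ A P).comp (Algebra.ofId A E)) (fun a ha => by
        change Ideal.Quotient.mk P (algebraMap A E a) = 0
        exact Ideal.Quotient.eq_zero_iff_mem.2 (hIP (Ideal.mem_map_of_mem _ ha))))
      (Ideal.Quotient.mkₐ A P) (fun _ _ => Commute.all _ _)
  let Q : PrimeSpectrum ((A ⧸ I) ⊗[A] E) := ⟨RingHom.ker χ.toRingHom, RingHom.ker_isPrime _⟩
  have hsupp := Groth.Agent.S6284.result (R := A ⧸ I) (R' := (A ⧸ I) ⊗[A] E) Ω[(A ⧸ I)⁄R]
  have hQ : Q ∉ Module.support ((A ⧸ I) ⊗[A] E) (((A ⧸ I) ⊗[A] E) ⊗[A ⧸ I] Ω[(A ⧸ I)⁄R]) := by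
    rw [Module.support_eq_empty_iff.2 hss]
    exact fun h => h
  rw [hsupp, Set.mem_preimage, Module.mem_support_iff_of_finite] at hQ
  obtain ⟨b, hb, hbQ⟩ := Set.not_subset.1 hQ
  obtain ⟨g, rfl⟩ := Ideal.Quotient.mk_surjective b
  refine ⟨g, fun hg => hbQ ?_, fun w => Module.mem_annihilator.1 hb w⟩
  change χ ((Ideal.Quotient.mk I g) ⊗ₜ[A] 1) = 0
  change (Ideal.Quotient.mk P (algebraMap A E g)) * (Ideal.Quotient.mk P 1) = 0
  rw [Ideal.Quotient.eq_zero_iff_mem.2 hg, zero_mul]

theorem unramified_away (I : Ideal A) (g : A) (B : Type u) [CommRing B] [Algebra A B]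
    [IsLocalization.Away g B]
    (hg : ∀ w : Ω[(A ⧸ I)⁄R], (Ideal.Quotient.mk I g) • w = 0) :
    ((Ideal.Quotient.mk (I.map (algebraMap A B))).comp
      ((algebraMap A B).comp (algebraMap R A))).FormallyUnramified := by
  let J : Ideal B := I.map (algebraMap A B)
  let _ : Algebra R B := ((algebraMap A B).comp (algebraMap R A)).toAlgebra
  have : IsScalarTower R A B := IsScalarTower.of_algebraMap_eq fun _ => rfl
  let φ : A ⧸ I →+* B ⧸ J := Ideal.quotientMap J (algebraMap A B) (Ideal.le_comap_map)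
  let _ : Algebra (A ⧸ I) (B ⧸ J) := φ.toAlgebra
  have htow : IsScalarTower A (A ⧸ I) (B ⧸ J) := IsScalarTower.of_algebraMap_eq fun a => rfl
  have htow2 : IsScalarTower R (A ⧸ I) (B ⧸ J) := IsScalarTower.of_algebraMap_eq fun a => rfl
  have hloc : Algebra.FormallyUnramified A B := Algebra.FormallyUnramified.of_isLocalization
    (Submonoid.powers g)
  have hq : Algebra.FormallyUnramified B (B ⧸ J) :=
    Algebra.FormallyUnramified.of_surjective (Algebra.ofId B (B ⧸ J)) Ideal.Quotient.mk_surjective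
  have hAB : Algebra.FormallyUnramified A (B ⧸ J) := Algebra.FormallyUnramified.comp A B (B ⧸ J)
  have hAB' : Algebra.FormallyUnramified (A ⧸ I) (B ⧸ J) :=
    Algebra.FormallyUnramified.of_restrictScalars A (A ⧸ I) (B ⧸ J)
  have hunit : IsUnit (algebraMap (A ⧸ I) (B ⧸ J) (Ideal.Quotient.mk I g)) := by
    have h1 : IsUnit (algebraMap A B g) := IsLocalization.Away.algebraMap_isUnit g
    exact h1.map (Ideal.Quotient.mk J)
  have h2 : (⊥ : Submodule (B ⧸ J) Ω[(B ⧸ J)⁄R]) = ⊤ := by
    refine span_of_unramified (N := A ⧸ I) _ fun n => ?_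
    rw [Submodule.mem_bot]
    have h3 : algebraMap (A ⧸ I) (B ⧸ J) (Ideal.Quotient.mk I g) •
        D R (B ⧸ J) (algebraMap (A ⧸ I) (B ⧸ J) n) = 0 := by
      rw [← KaehlerDifferential.map_D R R (A ⧸ I) (B ⧸ J) n, algebraMap_smul, ← map_smul, hg, map_zero]
    exact (hunit.smul_eq_zero).1 h3
  have h3 : Subsingleton Ω[(B ⧸ J)⁄R] := by
    refine ⟨fun x y => ?_⟩
    have h4 : ∀ x : Ω[(B ⧸ J)⁄R], x = 0 := fun x => by
      have : x ∈ (⊤ : Submodule (B ⧸ J) Ω[(B ⧸ J)⁄R]) := trivial
      rw [← h2] at this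
      exact this
    exact (h4 x).trans (h4 y).symm
  have h4 : Algebra.FormallyUnramified R (B ⧸ J) := ⟨h3⟩
  exact h4

end

theorem main' {R A : Type u} [CommRing R] [CommRing A] [Algebra R A] [Algebra.FiniteType R A]
    {C E N : Type u} [CommRing C] [CommRing E] [CommRing N] (ρ : A →+* E) (hρ : ρ.Etale)
    (ι : R →+* C) (hι : ι.Etale) (c : C) (π : MvPolynomial (Fin 2) C →+* N)
    (hπ : Function.Surjective π)
    (hπc : π (MvPolynomial.X 0) * π (MvPolynomial.X 1) = π (MvPolynomial.C c))
    (κ : N →+* E) (hκ : κ.Etale)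
    (hcomm : ρ.comp (algebraMap R A) = (κ.comp (π.comp MvPolynomial.C)).comp ι)
    (P : Ideal E) [P.IsPrime] :
    ∃ g : A, ρ g ∉ P ∧ ∀ (B : Type u) [CommRing B] [Algebra A B] [IsLocalization.Away g B],
      ((Ideal.Quotient.mk ((Fitt.ideal A Ω[A⁄R] 1).map (algebraMap A B))).comp
        ((algebraMap A B).comp (algebraMap R A))).FormallyUnramified := by
  let _ : Algebra A E := ρ.toAlgebra
  let _ : Algebra R C := ι.toAlgebra
  let _ : Algebra N E := κ.toAlgebra
  let _ : Algebra R N := ((π.comp MvPolynomial.C).comp ι).toAlgebra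
  let _ : Algebra R E := (ρ.comp (algebraMap R A)).toAlgebra
  let _ : Algebra C E := (κ.comp (π.comp MvPolynomial.C)).toAlgebra
  have h1 : IsScalarTower R A E := IsScalarTower.of_algebraMap_eq fun _ => rfl
  have h2 : IsScalarTower R C E := IsScalarTower.of_algebraMap_eq fun r => by
    exact congrArg (fun φ => φ r) hcomm
  have h3 : IsScalarTower R N E := IsScalarTower.of_algebraMap_eq fun r => by
    exact congrArg (fun φ => φ r) hcomm
  have h4 : Algebra.Etale A E := hρ
  have h5 : Algebra.Etale R C := hι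
  have h6 : Algebra.Etale N E := hκ
  let u : E := κ (π (MvPolynomial.X 0))
  let v : E := κ (π (MvPolynomial.X 1))
  have hspan : Submodule.span E {D R E u, D R E v} = ⊤ :=
    span_pair (C := C) (N := N) π hπ (fun _ => rfl)
  have huv : u * v = algebraMap C E c := by
    change κ _ * κ _ = κ (π (MvPolynomial.C c))
    rw [← map_mul, hπc]
  have hrel := relation (R := R) u v c huv
  obtain ⟨hu, hv⟩ := mem_fitt (R := R) u v hspan hrel
  rw [fitt_map (R := R) (A := A)] at hu hv
  obtain ⟨g, hg, hgw⟩ := exists_smul_eq_zero (R := R) (A := A) (Fitt.ideal A Ω[A⁄R] 1) u v hspan hu hv P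
  exact ⟨g, hg, fun B _ _ _ => unramified_away (R := R) _ g B hgw⟩

open Groth.Agent.Models.NodePushout in
/-- **Algebraic main theorem.** -/
theorem main {R A : Type u} [CommRing R] [CommRing A] [Algebra R A] [Algebra.FiniteType R A]
    {C E : Type u} [CommRing C] [CommRing E] (ρ : A →+* E) (hρ : ρ.Etale) (ι : R →+* C)
    (hι : ι.Etale) (c : C) (κ : Ruv (MvPolynomial.C c) →+* E) (hκ : κ.Etale)
    (hcomm : ρ.comp (algebraMap R A) = (κ.comp (iota (MvPolynomial.C c))).comp ι)
    (P : Ideal E) [P.IsPrime] :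
    ∃ g : A, ρ g ∉ P ∧ ∀ (B : Type u) [CommRing B] [Algebra A B] [IsLocalization.Away g B],
      ((Ideal.Quotient.mk ((Fitt.ideal A Ω[A⁄R] 1).map (algebraMap A B))).comp
        ((algebraMap A B).comp (algebraMap R A))).FormallyUnramified :=
  main' ρ hρ ι hι c (Ideal.Quotient.mk _) Ideal.Quotient.mk_surjective (by
    rw [← map_mul, Ideal.Quotient.eq]
    exact Ideal.mem_span_singleton_self _) κ hκ hcomm P

end K811.SingAlg
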