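import Groth.Agent.W4c1frobunstiva.K811.SingAlg
import Groth.Agent.S1637
import Groth.Agent.S8872
import Groth.Agent.OmegaSh.K583.Finite
import Groth.Agent.OmegaSh.K583.BaseChange
import Groth.Agent.OmegaSh.K583.ExistsUniv

/-!
# Points where the singular subscheme is unramified over the base
-/

set_option autoImplicit false
universe u

open CategoryTheory CategoryTheory.Limits AlgebraicGeometry OmegaSh

namespace K811.SingGood

variable {X S : Scheme.{u}} (f : X ⟶ S)

/-- The closed subscheme of `J` is formally unramified over `S` near `x`. -/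
def Good (J : X.IdealSheafData) (x : X) : Prop :=
  ∃ (U : X.affineOpens) (V : S.affineOpens) (_ : x ∈ U.1) (e : U.1 ≤ f ⁻¹ᵁ V.1),
    ((Ideal.Quotient.mk (J.ideal U)).comp (f.appLE V.1 U.1 e).hom).FormallyUnramified

theorem good_isOpen (J : X.IdealSheafData) : IsOpen {x | Good f J x} := by
  rw [isOpen_iff_forall_mem_open]
  rintro x ⟨U, V, hx, e, h⟩
  exact ⟨U.1, fun y hy => ⟨U, V, hy, e, h⟩, U.1.isOpen, hx⟩

theorem formallyUnramified_of_good (J : X.IdealSheafData) (h : ∀ x, Good f J x) :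
    FormallyUnramified (J.subschemeι ≫ f) := by
  rw [HasRingHomProperty.iff_exists_appLE (P := @FormallyUnramified)
    (RingHom.FormallyUnramified.stableUnderComposition.stableUnderCompositionWithLocalizationAway
      RingHom.FormallyUnramified.holdsForLocalizationAway).left]
  intro z
  obtain ⟨U, V, hx, e, hU⟩ := h (J.subschemeι z)
  have hW : IsAffineOpen (J.subschemeι ⁻¹ᵁ U.1) := U.2.preimage _
  refine ⟨V, ⟨_, hW⟩, hx, fun w hw => e hw, ?_⟩
  have h1 : (J.subschemeι ≫ f).appLE V.1 (J.subschemeι ⁻¹ᵁ U.1) (fun w hw => e hw) =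
      f.appLE V.1 U.1 e ≫ J.subschemeι.app U.1 := by
    rw [← Scheme.Hom.appLE_comp_appLE _ _ V.1 U.1 (J.subschemeι ⁻¹ᵁ U.1) e le_rfl,
      Scheme.Hom.app_eq_appLE]
  rw [h1, CommRingCat.hom_comp]
  have hsurj := J.subschemeι_app_surjective U
  have hker := J.ker_subschemeι_app U
  let ψ : Γ(X, U.1) ⧸ J.ideal U →+* Γ(J.subscheme, J.subschemeι ⁻¹ᵁ U.1) :=
    Ideal.Quotient.lift _ (J.subschemeι.app U.1).hom (fun a ha => by
      rw [← hker] at ha; exact ha)
  have hψ : (J.subschemeι.app U.1).hom = ψ.comp (Ideal.Quotient.mk (J.ideal U)) := rfl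
  have hψs : Function.Surjective ψ := by
    intro b
    obtain ⟨a, rfl⟩ := hsurj b
    exact ⟨Ideal.Quotient.mk _ a, rfl⟩
  rw [hψ, RingHom.comp_assoc]
  exact RingHom.FormallyUnramified.comp hU (RingHom.FormallyUnramified.of_surjective hψs)

theorem good_of_ideal_eq_top (J : X.IdealSheafData) (x : X) (U : X.affineOpens) (V : S.affineOpens)
    (hx : x ∈ U.1) (e : U.1 ≤ f ⁻¹ᵁ V.1) (h : J.ideal U = ⊤) : Good f J x := by
  refine ⟨U, V, hx, e, ?_⟩
  have : Subsingleton (Γ(X, U.1) ⧸ J.ideal U) := Ideal.Quotient.subsingleton_iff.2 h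
  letI := ((Ideal.Quotient.mk (J.ideal U)).comp (f.appLE V.1 U.1 e).hom).toAlgebra
  change Algebra.FormallyUnramified Γ(S, V.1) (Γ(X, U.1) ⧸ J.ideal U)
  exact ⟨Module.subsingleton (Γ(X, U.1) ⧸ J.ideal U) _⟩

theorem good_of_not_mem_support (J : X.IdealSheafData) (x : X) (h : x ∉ J.support) :
    Good f J x := by
  obtain ⟨V, U, hV, hU, hx, e⟩ := Groth.Agent.CohqA.PullbackQCoh.exists_affine_pair f x
  rw [Scheme.IdealSheafData.mem_support_iff_of_mem (U := ⟨U, hU⟩) hx, Scheme.mem_zeroLocus_iff] at h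
  push Not at h
  obtain ⟨g, hg, hxg⟩ := h
  refine good_of_ideal_eq_top f J x (X.affineBasicOpen (U := ⟨U, hU⟩) g) ⟨V, hV⟩ hxg
    (fun y hy => e (X.basicOpen_le g hy)) ?_
  rw [← J.map_ideal_basicOpen]
  refine Ideal.eq_top_of_isUnit_mem _ (Ideal.mem_map_of_mem _ hg) ?_
  exact RingedSpace.isUnit_res_basicOpen _ g

/-- The identification of the sections over the image of an affine chart. -/
noncomputable def chart {A : Type u} [CommRing A] (j : Spec (CommRingCat.of A) ⟶ X)
    [IsOpenImmersion j] : Γ(X, j.opensRange) ⟶ CommRingCat.of A :=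
  j.appLE j.opensRange ⊤ (fun y _ => ⟨y, rfl⟩) ≫ (Scheme.ΓSpecIso (CommRingCat.of A)).hom

instance isIso_chart {A : Type u} [CommRing A] (j : Spec (CommRingCat.of A) ⟶ X)
    [IsOpenImmersion j] : IsIso (chart j) := by
  have h1 : IsIso (j.app j.opensRange) := j.isIso_app _ le_rfl
  have h2 : j ⁻¹ᵁ j.opensRange = ⊤ := by
    ext y; exact ⟨fun _ => trivial, fun _ => ⟨y, rfl⟩⟩
  have h3 : IsIso (j.appLE j.opensRange ⊤ (fun y _ => ⟨y, rfl⟩)) := by
    rw [Scheme.Hom.appLE]
    have h4 : IsIso ((Spec (CommRingCat.of A)).presheaf.map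
        (homOfLE (show (⊤ : (Spec (CommRingCat.of A)).Opens) ≤ j ⁻¹ᵁ j.opensRange from h2.ge)).op) := by
      have : IsIso (homOfLE (show (⊤ : (Spec (CommRingCat.of A)).Opens) ≤
          j ⁻¹ᵁ j.opensRange from h2.ge)) := ⟨homOfLE h2.le, rfl, rfl⟩
      infer_instance
    infer_instance
  unfold chart
  infer_instance

theorem chart_comp {R A : Type u} [CommRing R] [CommRing A] [Algebra R A]
    (jS : Spec (CommRingCat.of R) ⟶ S) (jX : Spec (CommRingCat.of A) ⟶ X) [IsOpenImmersion jS]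
    [IsOpenImmersion jX] (hcomm : jX ≫ f = Spec.map (CommRingCat.ofHom (algebraMap R A)) ≫ jS)
    (e : jX.opensRange ≤ f ⁻¹ᵁ jS.opensRange) :
    f.appLE jS.opensRange jX.opensRange e ≫ chart jX =
      chart jS ≫ CommRingCat.ofHom (algebraMap R A) := by
  unfold chart
  rw [Category.assoc, ← Scheme.ΓSpecIso_naturality, ← Category.assoc, ← Category.assoc]
  congr 1
  have h2 : (Spec.map (CommRingCat.ofHom (algebraMap R A))).appTop =
      (Spec.map (CommRingCat.ofHom (algebraMap R A))).appLE ⊤ ⊤ le_top := by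
    exact Scheme.Hom.app_eq_appLE _
  rw [h2, Scheme.Hom.appLE_comp_appLE, Scheme.Hom.appLE_comp_appLE]
  congr 1

theorem opensRange_le {R A : Type u} [CommRing R] [CommRing A] [Algebra R A]
    (jS : Spec (CommRingCat.of R) ⟶ S) (jX : Spec (CommRingCat.of A) ⟶ X) [IsOpenImmersion jS]
    [IsOpenImmersion jX] (hcomm : jX ≫ f = Spec.map (CommRingCat.ofHom (algebraMap R A)) ≫ jS) :
    jX.opensRange ≤ f ⁻¹ᵁ jS.opensRange := by
  rintro _ ⟨y, rfl⟩
  refine ⟨Spec.map (CommRingCat.ofHom (algebraMap R A)) y, ?_⟩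
  exact congrArg (fun g => g y) (congrArg (fun g : Spec (CommRingCat.of A) ⟶ S => (g : _ → S)) hcomm.symm)

/-- **Nodes are good points.** -/
theorem good_of_node [Flat f] [LocallyOfFinitePresentation f] {Ω : X.Modules} {d : Der f Ω}
    (hd : IsUniversal d) (x : X)
    (hx : @Curv2.IsNode (S.residueField (f.base x)) _ (f.fiber (f.base x))
      ⟨f.fiberToSpecResidueField (f.base x)⟩ (f.asFiber x)) :
    Good f (Fitt.sheafIdeal Ω 1) x := by
  obtain ⟨R, A, _, _, _, jS, jX, _, _, hcomm, _, _, K, _, _, _, _, _, hxK, φ, hN⟩ :=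
    Groth.Agent.CurvesC.NodeScheme.exists_affine_node f x hx
  obtain ⟨C, A₂, _, _, ρ, ι, c, κ, χ, hρ, hι, hκ, hc, hχ⟩ :=
    Groth.Agent.CurvesC.NodeFinal.exists_model φ hN
  have e := opensRange_le f jS jX hcomm
  have hch := chart_comp f jS jX hcomm e
  have hU : IsAffineOpen jX.opensRange := isAffineOpen_opensRange jX
  have hV : IsAffineOpen jS.opensRange := isAffineOpen_opensRange jS
  let _ : Algebra Γ(S, jS.opensRange) Γ(X, jX.opensRange) :=
    (f.appLE jS.opensRange jX.opensRange e).hom.toAlgebra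
  have hft : Algebra.FiniteType Γ(S, jS.opensRange) Γ(X, jX.opensRange) :=
    LocallyOfFiniteType.finiteType_appLE f hV hU e
  have hβ : Function.Bijective (chart jS).hom := ConcreteCategory.bijective_of_isIso (chart jS)
  have hα : Function.Bijective (chart jX).hom := ConcreteCategory.bijective_of_isIso (chart jX)
  have hprime : (RingHom.ker χ).IsPrime := RingHom.ker_isPrime χ
  obtain ⟨g, hg, hB⟩ := SingAlg.main (R := Γ(S, jS.opensRange)) (A := Γ(X, jX.opensRange))
    (ρ.comp (chart jX).hom) (RingHom.Etale.stableUnderComposition _ _ (RingHom.Etale.of_bijective hα) hρ)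
    (ι.comp (chart jS).hom) (RingHom.Etale.stableUnderComposition _ _ (RingHom.Etale.of_bijective hβ) hι)
    c κ hκ (by
      have h1 := congrArg (fun ψ => ψ.hom) hch
      rw [RingHom.comp_assoc]
      have h2 : (chart jX).hom.comp (algebraMap Γ(S, jS.opensRange) Γ(X, jX.opensRange)) =
          (algebraMap R A).comp (chart jS).hom := h1
      rw [h2, ← RingHom.comp_assoc, hc, RingHom.comp_assoc]) (RingHom.ker χ)
  have hxg : x ∈ X.basicOpen g := by
    have h1 := Scheme.basicOpen_appLE jX (⊤ : (Spec (CommRingCat.of A)).Opens) jX.opensRange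
      (fun y _ => ⟨y, rfl⟩) g
    rw [basicOpen_eq_of_affine'] at h1
    have h2 : (⟨RingHom.ker (algebraMap A K), RingHom.ker_isPrime _⟩ : PrimeSpectrum A) ∈
        PrimeSpectrum.basicOpen ((chart jX).hom g) := by
      intro h3
      refine hg ?_
      have h4 : algebraMap A K ((chart jX).hom g) = 0 := h3
      rw [← hχ] at h4
      exact h4
    have h3 : (⟨RingHom.ker (algebraMap A K), RingHom.ker_isPrime _⟩ : PrimeSpectrum A) ∈
        (⊤ ⊓ jX ⁻¹ᵁ X.basicOpen g : (Spec (CommRingCat.of A)).Opens) := by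
      rw [← h1]
      exact h2
    rw [← hxK]
    exact h3.2
  refine ⟨X.affineBasicOpen (U := ⟨_, hU⟩) g, ⟨_, hV⟩, hxg, (fun y hy => e (X.basicOpen_le g hy)), ?_⟩
  have hJ : (Fitt.sheafIdeal Ω 1).ideal ⟨_, hU⟩ = Fitt.ideal Γ(X, jX.opensRange)
      Ω[Γ(X, jX.opensRange)⁄Γ(S, jS.opensRange)] 1 := by
    rw [Groth.Agent.SDiv.K474.FittSheaf.sheafIdeal_ideal Ω
      (K583.UnivAffine.isQuasicoherent_of_isUniversal hd) (K583.Finite.isFT hd)]
    obtain ⟨ε, -⟩ := K583.UnivAffine.exists_kaehler_equiv hd hU hV e rfl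
    exact (K360.FittBasic.ideal_congr ε 1).symm
  let _ : Algebra Γ(X, jX.opensRange) Γ(X, X.basicOpen g) :=
    (X.presheaf.map (homOfLE (X.basicOpen_le g)).op).hom.toAlgebra
  have : IsLocalization.Away g Γ(X, X.basicOpen g) := hU.isLocalization_basicOpen g
  have h3 := hB Γ(X, X.basicOpen g)
  have h4 : (Fitt.sheafIdeal Ω 1).ideal (X.affineBasicOpen (U := ⟨_, hU⟩) g) =
      (Fitt.ideal Γ(X, jX.opensRange) Ω[Γ(X, jX.opensRange)⁄Γ(S, jS.opensRange)] 1).map
        (algebraMap Γ(X, jX.opensRange) Γ(X, X.basicOpen g)) := by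
    rw [← Scheme.IdealSheafData.map_ideal_basicOpen, hJ]
    rfl
  have h5 : f.appLE jS.opensRange (X.basicOpen g) (fun y hy => e (X.basicOpen_le g hy)) =
      f.appLE jS.opensRange jX.opensRange e ≫ X.presheaf.map (homOfLE (X.basicOpen_le g)).op := by
    rw [Scheme.Hom.appLE_map]
  have h6 : ∀ (I I' : Ideal Γ(X, X.basicOpen g)) (φ φ' : Γ(S, jS.opensRange) →+* Γ(X, X.basicOpen g)),
      I = I' → φ = φ' → ((Ideal.Quotient.mk I).comp φ).FormallyUnramified →
        ((Ideal.Quotient.mk I').comp φ').FormallyUnramified := by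
    rintro I _ φ _ rfl rfl h
    exact h
  exact h6 _ _ _ _ h4.symm (congrArg CommRingCat.Hom.hom h5).symm h3

end K811.SingGood
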